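import Cfsg.Agent.Mrg.Omega.Assembly
import Cfsg.Agent.Co2Type.Quad
import Cfsg.Agent.Mrg.Omega.FrameI
import Cfsg.Agent.LargeExtra.Nine.ToCent
import Cfsg.Agent.Transfer.Extraspecial
import Cfsg.Agent.Mrg.Omega.TTn.Dih

section


/-!
# Theorem E, steps (1)-(4): `W` induces the four-group, the groups `B_k` commute (helper492)
-/

set_option autoImplicit false

namespace Cfsg.Agent.Omega.TT

open Subgroup Cfsg.Agent.ZN Equiv Cfsg.Agent.MinSimple.MinParabolic Cfsg.Agent.MinSimple.VModule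
open Cfsg.Agent.MinSimple.Basic

universe u

variable {G : Type u} [Group G] {V : Subgroup G} {z : Fin 5 → G} {S : Subgroup G}

/-- `k x k⁻¹ = r x`, `[k, r] = 1` implies `kᵐ x k⁻ᵐ = rᵐ x`. -/
theorem pow_fix {k x r : G} (h1 : k * x * k⁻¹ = r * x) (h2 : k * r = r * k) (m : ℕ) :
    k ^ m * x * (k ^ m)⁻¹ = r ^ m * x := by
  induction m with
  | zero => simp
  | succ m ih =>
    have h3 : k * r ^ m * k⁻¹ = r ^ m := by
      rw [mul_inv_eq_iff_eq_mul]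
      exact (Commute.pow_right (show Commute k r from h2) m).eq
    calc k ^ (m + 1) * x * (k ^ (m + 1))⁻¹ = k * (k ^ m * x * (k ^ m)⁻¹) * k⁻¹ := by
          rw [pow_succ']; group
      _ = k * (r ^ m * x) * k⁻¹ := by rw [ih]
      _ = (k * r ^ m * k⁻¹) * (k * x * k⁻¹) := by group
      _ = r ^ m * (r * x) := by rw [h3, h1]
      _ = _ := by rw [pow_succ]; group

/-- A 2-subgroup has an exponent which is a power of 2. -/
theorem exists_exp [Finite G] {R : Subgroup G} (hR : IsPGroup 2 R) : ∃ n : ℕ, ∀ r ∈ R, r ^ 2 ^ n = 1 := by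
  have : Fact (Nat.Prime 2) := ⟨Nat.prime_two⟩
  obtain ⟨n, hn⟩ := IsPGroup.iff_card.1 hR
  refine ⟨n, fun r hr => ?_⟩
  rw [← hn]
  have := pow_card_eq_one' (x := (⟨r, hr⟩ : R))
  exact congrArg Subtype.val this

theorem isPGroup_of_pow {K : Subgroup G} (h : ∀ k ∈ K, ∃ n : ℕ, k ^ 2 ^ n = 1) : IsPGroup 2 K := by
  intro k
  obtain ⟨n, hn⟩ := h k k.2
  exact ⟨n, Subtype.ext (by simpa using hn)⟩

/-- Stability. -/
theorem stab [Finite G] {C K R : Subgroup G} (hC : C ⊓ centralizer (o2 C : Set G) ≤ o2 C) (hK : K ≤ C)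
    (hn : C ≤ normalizer (K : Set G)) (hR : IsPGroup 2 R) (h1 : ∀ k ∈ K, ∀ q ∈ o2 C, k * q * k⁻¹ * q⁻¹ ∈ R)
    (h2 : ∀ k ∈ K, ∀ r ∈ R, k * r = r * k) : K ≤ o2 C := by
  refine le_o2 hK (isPGroup_of_pow fun k hk => ?_) hn
  obtain ⟨n, hn⟩ := exists_exp hR
  obtain ⟨m, hm⟩ := exists_exp (o2_isPGroup C)
  have h3 : k ^ 2 ^ n ∈ o2 C := by
    refine hC ⟨pow_mem (hK hk) _, mem_centralizer_iff.2 fun q hq => ?_⟩
    have e1 : k * q * k⁻¹ = (k * q * k⁻¹ * q⁻¹) * q := by group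
    have h4 := pow_fix e1 (h2 k hk _ (h1 k hk q hq)) (2 ^ n)
    rw [hn _ (h1 k hk q hq), one_mul, mul_inv_eq_iff_eq_mul] at h4
    exact h4.symm
  refine ⟨n + m, ?_⟩
  rw [pow_add, pow_mul]
  exact hm _ h3

namespace Hyp

variable (h : Hyp V z S)

include h

theorem z_mem_Q : z 4 ∈ qq z 4 := by
  have h1 := mul_mem (h.pr_mem_Q (i := 0) (j := 1) (by decide) (by decide))
    (h.pr_mem_Q (i := 2) (j := 3) (by decide) (by decide))
  have e : z 0 * z 1 * (z 2 * z 3) = z 4 := by rw [h.pts.four_eq]; group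
  rwa [e] at h1

theorem Q_comm_z {q : G} (hq : q ∈ qq z 4) : q * z 4 = z 4 * q := mem_cc.1 (o2_le _ hq)

theorem ev_pr (i j : Fin 5) : z i * z j = h.pts.ev (symmDiff {i} {j}) := by
  rw [← h.pts.ev_mul, h.pts.ev_singleton, h.pts.ev_singleton]

set_option maxRecDepth 40000 in
omit [Group G] h in
theorem pr_dec : ∀ σ ∈ ([1, swap 0 1 * swap 2 3, swap 0 2 * swap 1 3,
      swap 0 3 * swap 1 2] : List (Perm (Fin 5))), ∀ i j : Fin 5, i ≠ 4 → j ≠ 4 → 
      (((symmDiff {i} {j} : Finset (Fin 5)).map σ.toEmbedding = symmDiff {i} {j} ∨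
        (symmDiff {i} {j} : Finset (Fin 5)).map σ.toEmbedding = (symmDiff {i} {j})ᶜ) ∨
      ((symmDiff {i} {j} : Finset (Fin 5)).map σ.toEmbedding = symmDiff (symmDiff {i} {j}) {4} ∨
        (symmDiff {i} {j} : Finset (Fin 5)).map σ.toEmbedding = (symmDiff (symmDiff {i} {j}) {4})ᶜ)) := by
  decide

/-- (d) for the generators -/
theorem pr_conj {q : G} (hq : q ∈ qq z 4) {i j : Fin 5} (hi : i ≠ 4) (hj : j ≠ 4) :
    q * (z i * z j) * q⁻¹ = z i * z j ∨ q * (z i * z j) * q⁻¹ = z i * z j * z 4 := by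
  obtain ⟨σ, hσ, hqσ⟩ := h.Q_four hq
  rw [h.ev_pr, h.pts.ev_conj hqσ]
  have e4 : z 4 = h.pts.ev {4} := (h.pts.ev_singleton 4).symm
  conv in _ * z 4 => rw [e4]
  rw [h.pts.ev_mul, h.pts.ev_inj, h.pts.ev_inj]
  refine pr_dec σ ?_ i j hi hj
  rcases hσ with rfl | rfl | rfl | rfl <;> simp

/-- (d), (e): `[W, Q] ≤ ⟨z⟩`. -/
theorem W_conj {q w : G} (hq : q ∈ qq z 4) (hw : w ∈ ww z 4) :
    q * w * q⁻¹ = w ∨ q * w * q⁻¹ = w * z 4 := by
  have hzz : z 4 * z 4 = 1 := h.pts.sq 4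
  rw [ww] at hw
  induction hw using closure_induction generalizing q with
  | mem x hx =>
    obtain ⟨c, hc, i, j, hi, hj, rfl⟩ := hx
    have hq' : c⁻¹ * q * c⁻¹⁻¹ ∈ qq z 4 := conj_mem_o2 (inv_mem hc) hq
    have hcz : z 4 * c⁻¹ = c⁻¹ * z 4 := (mem_cc.1 (inv_mem hc)).symm
    have e : q * (c * (z i * z j) * c⁻¹) * q⁻¹ =
        c * ((c⁻¹ * q * c⁻¹⁻¹) * (z i * z j) * (c⁻¹ * q * c⁻¹⁻¹)⁻¹) * c⁻¹ := by group
    rcases h.pr_conj hq' hi hj with h1 | h1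
    · left; rw [e, h1]
    · right; rw [e, h1]
      calc c * (z i * z j * z 4) * c⁻¹ = c * (z i * z j) * (z 4 * c⁻¹) := by group
        _ = _ := by rw [hcz]; group
  | one => left; simp
  | mul x y hx1 hy1 hx hy =>
    have hyz : z 4 * y = y * z 4 := (h.Q_comm_z (h.ww_le_Q hy1)).symm
    have e : q * (x * y) * q⁻¹ = (q * x * q⁻¹) * (q * y * q⁻¹) := by group
    rcases hx hq with h1 | h1 <;> rcases hy hq with h2 | h2
    · left; rw [e, h1, h2]
    · right; rw [e, h1, h2]; group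
    · right; rw [e, h1, h2, mul_assoc, hyz]; group
    · left; rw [e, h1, h2]
      calc x * z 4 * (y * z 4) = x * (z 4 * y) * z 4 := by group
        _ = x * y * (z 4 * z 4) := by rw [hyz]; group
        _ = x * y := by rw [hzz, mul_one]
  | inv x hx1 hx =>
    have hxz : z 4 * x = x * z 4 := (h.Q_comm_z (h.ww_le_Q hx1)).symm
    have e : q * x⁻¹ * q⁻¹ = (q * x * q⁻¹)⁻¹ := by group
    rcases hx hq with h1 | h1
    · left; rw [e, h1]
    · right; rw [e, h1, ← hxz, mul_inv_rev, h.pts.inv_eq]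

/-- (f) -/
theorem V_conj {q v : G} (hq : q ∈ qq z 4) (hv : v ∈ V) : q * v * q⁻¹ * v⁻¹ ∈ ww z 4 := by
  obtain ⟨σ, hσ, hqσ⟩ := h.Q_four hq
  have h4 : σ 4 = 4 := by rcases hσ with rfl | rfl | rfl | rfl <;> decide
  have hv' := hv
  rw [h.pts.gen] at hv'
  induction hv' using closure_induction with
  | mem x hx =>
    obtain ⟨i, rfl⟩ := hx
    rw [hqσ i, h.pts.inv_eq]
    by_cases hi : i = 4
    · rw [hi, h4, h.pts.sq]; exact one_mem _
    · exact pr_mem_ww (fun e => hi (σ.injective (e.trans h4.symm))) hi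
  | one => simp
  | mul x y hx1 hy1 hx hy =>
    rw [← h.pts.gen] at hx1 hy1
    have e : q * (x * y) * q⁻¹ * (x * y)⁻¹ = (q * x * q⁻¹ * x⁻¹) * (x * (q * y * q⁻¹ * y⁻¹) * x⁻¹) := by group
    rw [e]
    exact mul_mem (hx hx1) (conj_ww (h.Vcc 4 hx1) (hy hy1))
  | inv x hx1 hx =>
    rw [← h.pts.gen] at hx1
    have e : x⁻¹ = x := inv_eq_of_mul_eq_one_left (h.pts.sq_mem hx1)
    rw [e]
    exact hx hx1

theorem Y_le_C : yy V z 4 ≤ cc z 4 := by
  rw [yy, closure_le]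
  rintro _ ⟨c, hc, v, hv, rfl⟩
  exact mul_mem (mul_mem hc (h.Vcc 4 hv)) (inv_mem hc)

theorem V_le_Y : V ≤ yy V z 4 := fun v hv => subset_closure ⟨1, one_mem _, v, hv, by group⟩

omit h in
theorem conj_yy {k : Fin 5} {c x : G} (hc : c ∈ cc z k) (hx : x ∈ yy V z k) : c * x * c⁻¹ ∈ yy V z k := by
  rw [yy] at hx ⊢
  induction hx using closure_induction with
  | mem x hx =>
    obtain ⟨d, hd, v, hv, rfl⟩ := hx
    exact subset_closure ⟨c * d, mul_mem hc hd, v, hv, by group⟩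
  | one => simp
  | mul x y _ _ hx hy =>
    have e : c * (x * y) * c⁻¹ = (c * x * c⁻¹) * (c * y * c⁻¹) := by group
    rw [e]; exact mul_mem hx hy
  | inv x _ hx =>
    have e : c * x⁻¹ * c⁻¹ = (c * x * c⁻¹)⁻¹ := by group
    rw [e]; exact inv_mem hx

theorem Y_conj {q y : G} (hq : q ∈ qq z 4) (hy : y ∈ yy V z 4) : y * q * y⁻¹ * q⁻¹ ∈ ww z 4 := by
  have hyY := hy
  rw [yy] at hy
  induction hy using closure_induction generalizing q with
  | mem x hx =>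
    obtain ⟨c, hc, v, hv, rfl⟩ := hx
    have hq' : c⁻¹ * q * c⁻¹⁻¹ ∈ qq z 4 := conj_mem_o2 (inv_mem hc) hq
    have h1 := conj_ww hc (inv_mem (h.V_conj hq' hv))
    have e : c * (c⁻¹ * q * c⁻¹⁻¹ * v * (c⁻¹ * q * c⁻¹⁻¹)⁻¹ * v⁻¹)⁻¹ * c⁻¹ =
        c * v * c⁻¹ * q * (c * v * c⁻¹)⁻¹ * q⁻¹ := by group
    rwa [e] at h1
  | one => simp
  | mul x y hx1 hy1 hx hy =>
    have hx' := hx hq hx1
    have hy' := conj_ww (h.Y_le_C hx1) (hy hq hy1)
    have e : x * y * q * (x * y)⁻¹ * q⁻¹ = (x * (y * q * y⁻¹ * q⁻¹) * x⁻¹) * (x * q * x⁻¹ * q⁻¹) := by group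
    rw [e]
    exact mul_mem hy' hx'
  | inv x hx1 hx =>
    have hx' := conj_ww (inv_mem (h.Y_le_C hx1)) (inv_mem (hx hq hx1))
    have e : x⁻¹ * (x * q * x⁻¹ * q⁻¹)⁻¹ * x⁻¹⁻¹ = x⁻¹ * q * x⁻¹⁻¹ * q⁻¹ := by group
    rwa [e] at hx'

variable [Finite G]

theorem W_not_le : ¬ ww z 4 ≤ centralizer (V : Set G) := by
  intro hle
  refine h.not_le (h.V_le_Y.trans ?_)
  have hn : cc z 4 ≤ normalizer (yy V z 4 : Set G) := norm_iff fun g hg x hx => conj_yy hg hx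
  refine stab h.char2_cc h.Y_le_C hn ((o2_isPGroup (cc z 4)).to_le h.ww_le_Q)
    (fun k hk q hq => h.Y_conj hq hk) fun k hk r hr => ?_
  rw [yy] at hk
  induction hk using closure_induction generalizing r with
  | mem x hx =>
    obtain ⟨c, hc, v, hv, rfl⟩ := hx
    have h1 := conj_ww (inv_mem hc) hr
    have h2 := mem_centralizer_iff.1 (hle h1) v hv
    calc c * v * c⁻¹ * r = c * (v * (c⁻¹ * r * c⁻¹⁻¹)) * c⁻¹ := by group
      _ = c * ((c⁻¹ * r * c⁻¹⁻¹) * v) * c⁻¹ := by rw [h2]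
      _ = _ := by group
  | one => simp
  | mul x y _ _ hx hy => rw [mul_assoc, hy r hr, ← mul_assoc, hx r hr, mul_assoc]
  | inv x _ hx => exact Commute.inv_left (hx r hr)

theorem exists_W {σ : Perm (Fin 5)} (hσ : IsFour σ) : ∃ w ∈ ww z 4, Act z w σ :=
  (h.four_of ((o2_isPGroup (cc z 4)).to_le h.ww_le_Q) (h.ww_le_Q.trans h.Q_le_L)
    (h.ww_le_Q.trans (o2_le _)) (fun _ _ hx _ hy => conj_ww hx hy)).2 h.W_not_le σ hσ

end Hyp

end Cfsg.Agent.Omega.TT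

end

section


/-!
# Theorem E, steps (2)-(4): the groups `B_k` (helper492)
-/

set_option autoImplicit false

namespace Cfsg.Agent.Omega.TT

open Subgroup Cfsg.Agent.ZN Equiv Cfsg.Agent.MinSimple.MinParabolic Cfsg.Agent.MinSimple.VModule
open Cfsg.Agent.MinSimple.Basic

universe u

variable {G : Type u} [Group G] {V : Subgroup G} {z : Fin 5 → G} {S : Subgroup G}

set_option maxRecDepth 40000 in
theorem cent_dec : ∀ σ ∈ ([1, swap 0 1 * swap 2 3, swap 0 2 * swap 1 3,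
      swap 0 3 * swap 1 2] : List (Perm (Fin 5))),
      ((symmDiff {0} {1} : Finset (Fin 5)).map σ.toEmbedding = symmDiff {0} {1} ∨
        (symmDiff {0} {1} : Finset (Fin 5)).map σ.toEmbedding = (symmDiff {0} {1})ᶜ) →
      ((symmDiff {0} {2} : Finset (Fin 5)).map σ.toEmbedding = symmDiff {0} {2} ∨
        (symmDiff {0} {2} : Finset (Fin 5)).map σ.toEmbedding = (symmDiff {0} {2})ᶜ) → σ = 1 := by
  decide

set_option maxRecDepth 40000 in
theorem fix_dec : ∀ s : Finset (Fin 5),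
      (s.map (swap 0 1 * swap 2 3 : Perm (Fin 5)).toEmbedding = s ∨
        s.map (swap 0 1 * swap 2 3 : Perm (Fin 5)).toEmbedding = sᶜ) →
      (s.map (swap 0 2 * swap 1 3 : Perm (Fin 5)).toEmbedding = s ∨
        s.map (swap 0 2 * swap 1 3 : Perm (Fin 5)).toEmbedding = sᶜ) →
      (s = ∅ ∨ s = Finset.univ) ∨ (s = {4} ∨ s = {4}ᶜ) := by
  decide

theorem isFour_mem {σ : Perm (Fin 5)} (hσ : IsFour σ) : σ ∈ ([1, swap 0 1 * swap 2 3, swap 0 2 * swap 1 3,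
      swap 0 3 * swap 1 2] : List (Perm (Fin 5))) := by
  rcases hσ with rfl | rfl | rfl | rfl <;> simp

theorem IsFour.fix {σ : Perm (Fin 5)} (hσ : IsFour σ) : σ 4 = 4 := by
  rcases hσ with rfl | rfl | rfl | rfl <;> decide

theorem norm_o2 (N : Subgroup G) : normalizer (N : Set G) ≤ normalizer (o2 N : Set G) :=
  norm_iff fun g hg x hx => by
    have e : N.map (MulAut.conj g).toMonoidHom = N := by
      ext y
      constructor
      · rintro ⟨n, hn, rfl⟩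
        exact (mem_normalizer_iff.1 hg n).1 hn
      · intro hy
        refine ⟨g⁻¹ * y * g⁻¹⁻¹, (mem_normalizer_iff.1 (inv_mem hg) y).1 hy, ?_⟩
        simp; group
    have h1 := MinPar.o2_map_equiv (MulAut.conj g) N
    rw [e] at h1
    rw [h1]
    exact ⟨x, hx, rfl⟩

namespace Hyp

variable (h : Hyp V z S)

include h

/-- `C_Q(V_z) = C_Q(V)` -/
theorem mem_cent_of_comm {q : G} (hq : q ∈ qq z 4) (h1 : q * (z 0 * z 1) = z 0 * z 1 * q)
    (h2 : q * (z 0 * z 2) = z 0 * z 2 * q) : q ∈ centralizer (V : Set G) := by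
  obtain ⟨σ, hσ, hqσ⟩ := h.Q_four hq
  rw [← mul_inv_eq_iff_eq_mul, h.ev_pr, h.pts.ev_conj hqσ, h.pts.ev_inj] at h1 h2
  have := cent_dec σ (isFour_mem hσ) h1 h2
  exact h.pts.mem_cent (this ▸ hqσ)

/-- `C_V(V₄) = ⟨z⟩` -/
theorem fix_of_comm {v g k : G} (hv : v ∈ V) (hg : Act z g (swap 0 1 * swap 2 3))
    (hk : Act z k (swap 0 2 * swap 1 3)) (h1 : g * v = v * g) (h2 : k * v = v * k) : v = 1 ∨ v = z 4 := by
  obtain ⟨s, rfl⟩ := h.pts.exists_ev hv
  rw [← mul_inv_eq_iff_eq_mul, h.pts.ev_conj hg, h.pts.ev_inj] at h1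
  rw [← mul_inv_eq_iff_eq_mul, h.pts.ev_conj hk, h.pts.ev_inj] at h2
  rcases fix_dec s h1 h2 with h3 | h3
  · left; exact h.pts.ev_eq_one.2 h3
  · right; rw [← h.pts.ev_singleton, h.pts.ev_inj]; exact h3

/-- `B ≤ C(V)` for the point `z 4`. -/
theorem bb_le_cent_four : bb z 4 ≤ centralizer (V : Set G) := fun b hb =>
  h.mem_cent_of_comm (mem_inf.1 hb).1
    ((mem_centralizer_iff.1 (mem_inf.1 hb).2 _ (pr_mem_ww (by decide) (by decide))).symm)
    ((mem_centralizer_iff.1 (mem_inf.1 hb).2 _ (pr_mem_ww (by decide) (by decide))).symm)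

omit h in
theorem conj_cent {g x : G} (hg : g ∈ normalizer (V : Set G)) (hx : x ∈ centralizer (V : Set G)) :
    g * x * g⁻¹ ∈ centralizer (V : Set G) := by
  rw [mem_centralizer_iff] at hx ⊢
  intro v hv
  have h1 := (mem_normalizer_iff.1 (inv_mem hg) v).1 hv
  have h2 := hx _ h1
  calc v * (g * x * g⁻¹) = g * ((g⁻¹ * v * g⁻¹⁻¹) * x) * g⁻¹ := by group
    _ = _ := by rw [h2]; group

theorem bb_le_cent (k : Fin 5) : bb z k ≤ centralizer (V : Set G) := by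
  intro x hx
  obtain ⟨σ, hσ, hk⟩ := exists_alt_move k 4
  obtain ⟨g, hg, hgσ⟩ := h.pts.alt σ hσ
  have h1 := conj_mem_bb hgσ hx
  rw [hk] at h1
  have h2 := conj_cent (inv_mem hg) (h.bb_le_cent_four h1)
  have e : g⁻¹ * (g * x * g⁻¹) * g⁻¹⁻¹ = x := by group
  rwa [e] at h2

theorem cent_le_cc (k : Fin 5) : centralizer (V : Set G) ≤ cc z k := fun _ hx =>
  mem_cc.2 ((mem_centralizer_iff.1 hx _ (h.pts.mem k)).symm)

/-- `V ∩ B = ⟨z⟩`. -/
theorem V_inf_bb [Finite G] {v : G} (hv : v ∈ V) (hb : v ∈ bb z 4) : v = 1 ∨ v = z 4 := by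
  obtain ⟨w1, hw1, hw1'⟩ := h.exists_W (σ := swap 0 1 * swap 2 3) (Or.inr (Or.inl rfl))
  obtain ⟨w2, hw2, hw2'⟩ := h.exists_W (σ := swap 0 2 * swap 1 3) (Or.inr (Or.inr (Or.inl rfl)))
  exact h.fix_of_comm hv hw1' hw2' (mem_centralizer_iff.1 (mem_inf.1 hb).2 _ hw1)
    (mem_centralizer_iff.1 (mem_inf.1 hb).2 _ hw2)

/-- `z k ∈ W_k` -/
theorem z_mem_ww : z 4 ∈ ww z 4 := by
  have h1 := mul_mem (pr_mem_ww (z := z) (k := 4) (i := 0) (j := 1) (by decide) (by decide))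
    (pr_mem_ww (z := z) (k := 4) (i := 2) (j := 3) (by decide) (by decide))
  have e : z 0 * z 1 * (z 2 * z 3) = z 4 := by rw [h.pts.four_eq]; group
  rwa [e] at h1

theorem z_mem_bb_four : z 4 ∈ bb z 4 :=
  mem_inf.2 ⟨h.z_mem_Q, mem_centralizer_iff.2 fun _ hw => h.Q_comm_z (h.ww_le_Q hw)⟩

theorem z_mem_bb (k : Fin 5) : z k ∈ bb z k := by
  obtain ⟨σ, hσ, hk⟩ := exists_alt_move 4 k
  obtain ⟨g, hg, hgσ⟩ := h.pts.alt σ hσ
  have h1 := conj_mem_bb hgσ h.z_mem_bb_four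
  rwa [hgσ 4, hk] at h1

/-- `W_k` is transitive on the other points. -/
theorem ww_move [Finite G] {k i j : Fin 5} (hi : i ≠ k) (hj : j ≠ k) :
    ∃ w ∈ ww z k, ∃ σ, Act z w σ ∧ σ i = j := by
  obtain ⟨τ, hτ, hk⟩ := exists_alt_move 4 k
  obtain ⟨g, hg, hgτ⟩ := h.pts.alt τ hτ
  have hi' : τ⁻¹ i ≠ 4 := fun e => hi (by rw [← hk, ← e]; simp)
  have hj' : τ⁻¹ j ≠ 4 := fun e => hj (by rw [← hk, ← e]; simp)
  obtain ⟨σ, hσ, hij⟩ := four_move _ _ hi' hj'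
  obtain ⟨w, hw, hwσ⟩ := h.exists_W hσ
  refine ⟨g * w * g⁻¹, hk ▸ conj_mem_ww hgτ hw, τ * σ * τ⁻¹, hwσ.conj hgτ, ?_⟩
  show τ (σ (τ⁻¹ i)) = j
  rw [hij]; simp

/-- (l) -/
theorem bb_inf_le [Finite G] {i j k : Fin 5} (hij : i ≠ j) {x : G} (hi : x ∈ bb z i) (hj : x ∈ bb z j) :
    x ∈ bb z k := by
  by_cases h1 : k = j
  · rwa [h1]
  obtain ⟨w, hw, σ, hwσ, hσ⟩ := h.ww_move (k := j) hij h1
  have h2 := conj_mem_bb hwσ hi
  rw [hσ] at h2
  have h3 : w * x = x * w := mem_centralizer_iff.1 (mem_inf.1 hj).2 w hw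
  rwa [← mul_inv_eq_iff_eq_mul.2 h3]

omit h in
theorem bb_isPGroup (k : Fin 5) : IsPGroup 2 (bb z k) := (o2_isPGroup _).to_le inf_le_left

/-- `[B, Y] = 1` -/
theorem Y_le_cent_bb : yy V z 4 ≤ centralizer (bb z 4 : Set G) := by
  rw [yy, closure_le]
  rintro _ ⟨c, hc, v, hv, rfl⟩
  refine mem_centralizer_iff.2 fun b hb => ?_
  have h1 := conj_bb (inv_mem hc) hb
  have h2 := mem_centralizer_iff.1 (h.bb_le_cent 4 h1) v hv
  calc b * (c * v * c⁻¹) = c * ((c⁻¹ * b * c⁻¹⁻¹) * v) * c⁻¹ := by group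
    _ = c * (v * (c⁻¹ * b * c⁻¹⁻¹)) * c⁻¹ := by rw [h2]
    _ = _ := by group

/-- (4): `⋂ B_k = 1`. -/
theorem iInf_bb [Finite G] : (⨅ k, bb z k) = ⊥ := by
  by_contra hne
  set B := ⨅ k, bb z k with hB
  have hB2 : IsPGroup 2 B := (bb_isPGroup 4).to_le (iInf_le _ 4)
  have hLB : normalizer (V : Set G) ≤ normalizer (B : Set G) := norm_iff fun g hg x hx => by
    obtain ⟨σ, hσ⟩ := h.pts.perm g hg
    rw [hB, mem_iInf] at hx ⊢
    intro k
    have h1 := conj_mem_bb hσ (hx (σ⁻¹ k))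
    have e : σ (σ⁻¹ k) = k := by simp
    rwa [e] at h1
  set M := normalizer (B : Set G) with hM
  have hRS : o2 M ≤ S := h.max _ (o2_isPGroup _) ((h.norm.trans hLB).trans (le_normalizer_o2 _))
  have hRV : o2 M ≤ centralizer (V : Set G) := by
    intro x hx
    rw [h.pts.gen, centralizer_closure, mem_centralizer_iff]
    rintro _ ⟨k, rfl⟩
    obtain ⟨σ, hσ, hk⟩ := exists_alt_move k 4
    obtain ⟨g, hg, hgσ⟩ := h.pts.alt σ hσ
    have h1 : g * x * g⁻¹ ∈ o2 M := conj_mem_o2 (hLB hg) hx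
    have h2 := mem_cc.1 (h.fix (hRS h1))
    rw [← hk, ← hgσ k] at h2
    calc z k * x = g⁻¹ * ((g * z k * g⁻¹) * (g * x * g⁻¹)) * g := by group
      _ = g⁻¹ * ((g * x * g⁻¹) * (g * z k * g⁻¹)) * g := by rw [h2]
      _ = _ := by group
  have hVM : V ≤ M := le_normalizer.trans hLB
  have hVR : V ≤ o2 M := fun v hv => h.char2 B hB2 hne
    ⟨hVM hv, mem_centralizer_iff.2 fun r hr => (mem_centralizer_iff.1 (hRV hr) v hv).symm⟩
  have hYM : yy V z 4 ≤ M := (h.Y_le_cent_bb.trans (centralizer_le (show (B : Set G) ⊆ bb z 4 from iInf_le (bb z) 4))).trans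
    (centralizer_le_normalizer _)
  have hU : V ≤ o2 (yy V z 4) := by
    refine (le_inf h.V_le_Y hVR).trans (le_o2 inf_le_left ((o2_isPGroup M).to_le inf_le_right) ?_)
    exact norm_iff fun g hg x hx => mem_inf.2 ⟨mul_mem (mul_mem hg (mem_inf.1 hx).1) (inv_mem hg),
      conj_mem_o2 (hYM hg) (mem_inf.1 hx).2⟩
  refine h.not_le (hU.trans (le_o2 ((o2_le _).trans h.Y_le_C) (o2_isPGroup _) ?_))
  have hn : cc z 4 ≤ normalizer (yy V z 4 : Set G) := norm_iff fun g hg x hx => conj_yy hg hx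
  exact hn.trans (norm_o2 _)

theorem bb_inf [Finite G] {i j : Fin 5} (hij : i ≠ j) {x : G} (hi : x ∈ bb z i) (hj : x ∈ bb z j) : x = 1 := by
  have h1 : x ∈ (⨅ k, bb z k) := mem_iInf.2 fun k => h.bb_inf_le hij hi hj
  rw [h.iInf_bb] at h1
  exact mem_bot.1 h1

theorem bb_comm [Finite G] {i j : Fin 5} (hij : i ≠ j) {x y : G} (hx : x ∈ bb z i) (hy : y ∈ bb z j) :
    x * y = y * x := by
  have h1 : x * y * x⁻¹ * y⁻¹ ∈ bb z j :=
    mul_mem (conj_bb (h.cent_le_cc j (h.bb_le_cent i hx)) hy) (inv_mem hy)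
  have h2 : x * (y * x⁻¹ * y⁻¹) ∈ bb z i :=
    mul_mem hx (conj_bb (h.cent_le_cc i (h.bb_le_cent j hy)) (inv_mem hx))
  have e : x * (y * x⁻¹ * y⁻¹) = x * y * x⁻¹ * y⁻¹ := by group
  rw [e] at h2
  have h3 := h.bb_inf hij h2 h1
  rw [mul_inv_eq_one, mul_inv_eq_iff_eq_mul] at h3
  exact h3

end Hyp

end Cfsg.Agent.Omega.TT

end

section


/-!
# Theorem E, steps (5)-(7) (helper492)

`Hyp.large` : `O₂(C_G(z))` is extraspecial with centre `⟨z⟩`.
-/

set_option autoImplicit false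

namespace Cfsg.Agent.Omega.TT

open Subgroup Cfsg.Agent.ZN Equiv Cfsg.Agent.MinSimple.MinParabolic Cfsg.Agent.MinSimple.VModule
open Cfsg.Agent.MinSimple.Basic

universe u

variable {G : Type u} [Group G] {V : Subgroup G} {z : Fin 5 → G} {S : Subgroup G}

/-- The elements moving `W` inside `C(W)` and centralising `B`. -/
def kk (z : Fin 5 → G) : Subgroup G where
  carrier := {g | g ∈ cc z 4 ∧ (∀ w ∈ ww z 4, g * w * g⁻¹ * w⁻¹ ∈ centralizer (ww z 4 : Set G)) ∧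
    ∀ b ∈ bb z 4, g * b = b * g}
  one_mem' := ⟨one_mem _, fun w _ => by simp, fun b _ => by simp⟩
  mul_mem' := by
    rintro x y ⟨hx1, hx2, hx3⟩ ⟨hy1, hy2, hy3⟩
    refine ⟨mul_mem hx1 hy1, fun w hw => ?_, fun b hb => ?_⟩
    · have e : x * y * w * (x * y)⁻¹ * w⁻¹ = (x * (y * w * y⁻¹ * w⁻¹) * x⁻¹) * (x * w * x⁻¹ * w⁻¹) := by group
      rw [e]
      refine mul_mem (mem_centralizer_iff.2 fun u hu => ?_) (hx2 w hw)
      have h1 := mem_centralizer_iff.1 (hy2 w hw) _ (Hyp.conj_ww (inv_mem hx1) hu)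
      calc u * (x * (y * w * y⁻¹ * w⁻¹) * x⁻¹)
          = x * ((x⁻¹ * u * x⁻¹⁻¹) * (y * w * y⁻¹ * w⁻¹)) * x⁻¹ := by group
        _ = x * ((y * w * y⁻¹ * w⁻¹) * (x⁻¹ * u * x⁻¹⁻¹)) * x⁻¹ := by rw [h1]
        _ = _ := by group
    · rw [mul_assoc, hy3 b hb, ← mul_assoc, hx3 b hb, mul_assoc]
  inv_mem' := by
    rintro x ⟨hx1, hx2, hx3⟩
    refine ⟨inv_mem hx1, fun w hw => ?_, fun b hb => Commute.inv_left (hx3 b hb)⟩
    have e : x⁻¹ * w * x⁻¹⁻¹ * w⁻¹ = x⁻¹ * (x * w * x⁻¹ * w⁻¹)⁻¹ * x := by group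
    rw [e]
    refine mem_centralizer_iff.2 fun u hu => ?_
    have h1 := mem_centralizer_iff.1 (inv_mem (hx2 w hw)) _ (Hyp.conj_ww hx1 hu)
    calc u * (x⁻¹ * (x * w * x⁻¹ * w⁻¹)⁻¹ * x)
        = x⁻¹ * ((x * u * x⁻¹) * (x * w * x⁻¹ * w⁻¹)⁻¹) * x := by group
      _ = x⁻¹ * ((x * w * x⁻¹ * w⁻¹)⁻¹ * (x * u * x⁻¹)) * x := by rw [h1]
      _ = _ := by group

namespace Hyp

variable [Finite G] (h : Hyp V z S)

include h

omit [Finite G] in
theorem zz (x : G) : x * z 4 * z 4 = x := by rw [mul_assoc, h.pts.sq 4, mul_one]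

/-- (5) -/
theorem bb_eq_one {b : G} (hb : b ∈ bb z 0) (hw : ∀ w ∈ ww z 4, w * b * w⁻¹ = b ∨ w * b * w⁻¹ = b * z 4) :
    b = 1 := by
  obtain ⟨w1, hw1, hw1'⟩ := h.exists_W (σ := swap 0 1 * swap 2 3) (Or.inr (Or.inl rfl))
  obtain ⟨w2, hw2, hw2'⟩ := h.exists_W (σ := swap 0 2 * swap 1 3) (Or.inr (Or.inr (Or.inl rfl)))
  have e1 : (swap 0 1 * swap 2 3 : Perm (Fin 5)) 0 = 1 := by decide
  have e2 : (swap 0 2 * swap 1 3 : Perm (Fin 5)) 0 = 2 := by decide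
  have h1 := conj_mem_bb hw1' hb
  have h2 := conj_mem_bb hw2' hb
  rw [e1] at h1
  rw [e2] at h2
  rcases hw w1 hw1 with h3 | h3
  · rw [h3] at h1
    exact h.bb_inf (i := 0) (j := 1) (by decide) hb h1
  rcases hw w2 hw2 with h4 | h4
  · rw [h4] at h2
    exact h.bb_inf (i := 0) (j := 2) (by decide) hb h2
  rw [h3] at h1
  rw [h4] at h2
  have h5 := h.bb_inf (i := 1) (j := 2) (by decide) h1 h2
  have h6 : b = z 4 := by
    have := eq_inv_of_mul_eq_one_left h5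
    rwa [h.pts.inv_eq] at this
  rw [h6] at hb
  exact absurd (h.bb_inf (i := 0) (j := 4) (by decide) hb (h.z_mem_bb 4)) (h.pts.ne_one 4)

/-- `[B₁, C_W(V)] = 1`. -/
theorem bb_comm_W {b w : G} (hb : b ∈ bb z 0) (hw : w ∈ ww z 4) (hwV : w ∈ centralizer (V : Set G)) :
    b * w = w * b := by
  have hbC : b ∈ cc z 4 := h.cent_le_cc 4 (h.bb_le_cent 0 hb)
  have h1 : b * w * b⁻¹ * w⁻¹ ∈ ww z 4 := mul_mem (conj_ww hbC hw) (inv_mem hw)
  have h2 : b * (w * b⁻¹ * w⁻¹) ∈ bb z 0 := mul_mem hb (conj_bb (h.cent_le_cc 0 hwV) (inv_mem hb))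
  have e : b * (w * b⁻¹ * w⁻¹) = b * w * b⁻¹ * w⁻¹ := by group
  rw [e] at h2
  have h3 := h.bb_eq_one h2 fun u hu => h.W_conj (h.ww_le_Q hu) h1
  rw [mul_inv_eq_one, mul_inv_eq_iff_eq_mul] at h3
  exact h3

/-- `[w, b]` centralises `C_W(V)`. -/
theorem cm_comm {b w u : G} (hb : b ∈ bb z 0) (hw : w ∈ ww z 4) (hu : u ∈ ww z 4)
    (huV : u ∈ centralizer (V : Set G)) : b * w * b⁻¹ * w⁻¹ * u = u * (b * w * b⁻¹ * w⁻¹) := by
  have hbu := h.bb_comm_W hb hu huV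
  have hbz : b * z 4 = z 4 * b := mem_cc.1 (h.cent_le_cc 4 (h.bb_le_cent 0 hb))
  have hwz : w * z 4 = z 4 * w := h.Q_comm_z (h.ww_le_Q hw)
  rw [← mul_inv_eq_iff_eq_mul]
  rcases h.W_conj (inv_mem (h.ww_le_Q hw)) hu with h1 | h1
  · have h2 : w * u * w⁻¹ = u := by
      calc w * u * w⁻¹ = w * (w⁻¹ * u * w⁻¹⁻¹) * w⁻¹ := by rw [h1]
        _ = u := by group
    calc b * w * b⁻¹ * w⁻¹ * u * (b * w * b⁻¹ * w⁻¹)⁻¹
        = b * w * b⁻¹ * (w⁻¹ * u * w⁻¹⁻¹) * (b * w * b⁻¹)⁻¹ := by group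
      _ = b * w * (b⁻¹ * u * b) * w⁻¹ * b⁻¹ := by rw [h1]; group
      _ = b * (w * u * w⁻¹) * b⁻¹ := by
          have : b⁻¹ * u * b = u := by rw [mul_assoc, ← hbu, inv_mul_cancel_left]
          rw [this]; group
      _ = u := by rw [h2, hbu, mul_inv_cancel_right]
  · have h2 : w * (u * z 4) * w⁻¹ = u := by
      calc w * (u * z 4) * w⁻¹ = w * (w⁻¹ * u * w⁻¹⁻¹) * w⁻¹ := by rw [h1]
        _ = u := by group
    calc b * w * b⁻¹ * w⁻¹ * u * (b * w * b⁻¹ * w⁻¹)⁻¹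
        = b * w * b⁻¹ * (w⁻¹ * u * w⁻¹⁻¹) * (b * w * b⁻¹)⁻¹ := by group
      _ = b * w * (b⁻¹ * (u * z 4) * b) * w⁻¹ * b⁻¹ := by rw [h1]; group
      _ = b * (w * (u * z 4) * w⁻¹) * b⁻¹ := by
          have : b⁻¹ * (u * z 4) * b = u * z 4 := by
            calc b⁻¹ * (u * z 4) * b = b⁻¹ * u * (z 4 * b) := by group
              _ = b⁻¹ * (u * b) * z 4 := by rw [← hbz]; group
              _ = _ := by rw [← hbu]; group
          rw [this]; group
      _ = u := by rw [h2, hbu, mul_inv_cancel_right]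

omit [Finite G] in
/-- Generation of `W` by `C_W(V)` and two elements. -/
theorem comm_W {w1 w2 : G} (hw1 : w1 ∈ ww z 4) (hw2 : w2 ∈ ww z 4) (hw1' : Act z w1 (swap 0 1 * swap 2 3))
    (hw2' : Act z w2 (swap 0 2 * swap 1 3)) {P : G → Prop}
    (h0 : ∀ u ∈ ww z 4, u ∈ centralizer (V : Set G) → P u) (h1 : P w1) (h2 : P w2)
    (hm : ∀ a b : G, a ∈ ww z 4 → b ∈ ww z 4 → P a → P b → P (a * b)) {w : G} (hw : w ∈ ww z 4) : P w := by
  obtain ⟨σ, hσ, hwσ⟩ := h.Q_four (h.ww_le_Q hw)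
  have key : ∀ (v : G), v ∈ ww z 4 → P v → Act z v σ → P w := by
    intro v hv hPv hvσ
    have h3 : Act z (v⁻¹ * w) 1 := by
      have := hvσ.inv.mul hwσ
      rwa [inv_mul_cancel] at this
    have h4 := h0 (v⁻¹ * w) (mul_mem (inv_mem hv) hw) (h.pts.mem_cent h3)
    have := hm v (v⁻¹ * w) hv (mul_mem (inv_mem hv) hw) hPv h4
    rwa [mul_inv_cancel_left] at this
  rcases hσ with rfl | rfl | rfl | rfl
  · exact h0 w hw (h.pts.mem_cent hwσ)
  · exact key w1 hw1 h1 hw1'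
  · exact key w2 hw2 h2 hw2'
  · refine key (w1 * w2) (mul_mem hw1 hw2) (hm w1 w2 hw1 hw2 h1 h2) ?_
    have := hw1'.mul hw2'
    have e : (swap 0 1 * swap 2 3 : Perm (Fin 5)) * (swap 0 2 * swap 1 3) = swap 0 3 * swap 1 2 := by decide
    rwa [e] at this

omit [Finite G] in
theorem z_comm_W {w : G} (hw : w ∈ ww z 4) : w * z 4 = z 4 * w := h.Q_comm_z (h.ww_le_Q hw)

omit [Finite G] in
/-- To centralise `W` it suffices to centralise `C_W(V)` and the two elements. -/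
theorem mem_cent_W {x w1 w2 : G} (hw1 : w1 ∈ ww z 4) (hw2 : w2 ∈ ww z 4) (hw1' : Act z w1 (swap 0 1 * swap 2 3))
    (hw2' : Act z w2 (swap 0 2 * swap 1 3)) (h0 : ∀ u ∈ ww z 4, u ∈ centralizer (V : Set G) → x * u = u * x)
    (h1 : x * w1 = w1 * x) (h2 : x * w2 = w2 * x) : x ∈ centralizer (ww z 4 : Set G) := by
  refine mem_centralizer_iff.2 fun w hw => ?_
  refine (h.comm_W hw1 hw2 hw1' hw2' (P := fun w => x * w = w * x) h0 h1 h2 ?_ hw).symm
  intro a b _ _ ha hb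
  rw [← mul_assoc, ha, mul_assoc, hb, mul_assoc]

omit [Finite G] in
/-- An element of `W` centralising `C_W(V)` lies in `V_z Z(W)`. -/
theorem exists_e {c w1 w2 : G} (hw1 : w1 ∈ ww z 4) (hw2 : w2 ∈ ww z 4)
    (hw1' : Act z w1 (swap 0 1 * swap 2 3)) (hw2' : Act z w2 (swap 0 2 * swap 1 3))
    (hc : c ∈ ww z 4) (h0 : ∀ u ∈ ww z 4, u ∈ centralizer (V : Set G) → c * u = u * c) :
    ∃ e ∈ V, e ∈ ww z 4 ∧ c * e ∈ centralizer (ww z 4 : Set G) := by
  have hm1 : z 0 * z 1 ∈ ww z 4 := pr_mem_ww (by decide) (by decide)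
  have hm2 : z 0 * z 2 ∈ ww z 4 := pr_mem_ww (by decide) (by decide)
  have hV1 : z 0 * z 1 ∈ V := mul_mem (h.pts.mem 0) (h.pts.mem 1)
  have hV2 : z 0 * z 2 ∈ V := mul_mem (h.pts.mem 0) (h.pts.mem 2)
  -- the action of `w1`, `w2` on the two elements
  have a11 : w1 * (z 0 * z 1) * w1⁻¹ = z 0 * z 1 := by
    rw [h.ev_pr, h.pts.ev_conj hw1', h.pts.ev_inj]; decide
  have a12 : w1 * (z 0 * z 2) * w1⁻¹ = z 0 * z 2 * z 4 := by
    have e4 : z 4 = h.pts.ev {4} := (h.pts.ev_singleton 4).symm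
    rw [h.ev_pr, h.pts.ev_conj hw1', e4, h.pts.ev_mul, h.pts.ev_inj]; decide
  have a21 : w2 * (z 0 * z 1) * w2⁻¹ = z 0 * z 1 * z 4 := by
    have e4 : z 4 = h.pts.ev {4} := (h.pts.ev_singleton 4).symm
    rw [h.ev_pr, h.pts.ev_conj hw2', e4, h.pts.ev_mul, h.pts.ev_inj]; decide
  have a22 : w2 * (z 0 * z 2) * w2⁻¹ = z 0 * z 2 := by
    rw [h.ev_pr, h.pts.ev_conj hw2', h.pts.ev_inj]; decide
  -- a suitable element
  have key : ∀ e ∈ V, w1 * (c * e) * w1⁻¹ = c * e → w2 * (c * e) * w2⁻¹ = c * e →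
      c * e ∈ centralizer (ww z 4 : Set G) := by
    intro e he h1 h2
    refine h.mem_cent_W hw1 hw2 hw1' hw2' (fun u hu huV => ?_) ?_ ?_
    · have h3 := mem_centralizer_iff.1 huV e he
      rw [mul_assoc, h3, ← mul_assoc, h0 u hu huV, mul_assoc]
    · rw [mul_inv_eq_iff_eq_mul] at h1; exact h1.symm
    · rw [mul_inv_eq_iff_eq_mul] at h2; exact h2.symm
  have split : ∀ w e : G, w * (c * e) * w⁻¹ = (w * c * w⁻¹) * (w * e * w⁻¹) := fun w e => by group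
  have hz : ∀ e ∈ ww z 4, c * z 4 * (e * z 4) = c * e := by
    intro e he
    rw [h.z_comm_W he]
    calc c * z 4 * (z 4 * e) = c * (z 4 * z 4) * e := by group
      _ = c * e := by rw [h.pts.sq, mul_one]
  have hz' : ∀ e ∈ ww z 4, c * z 4 * e = c * e * z 4 := by
    intro e he
    rw [mul_assoc, ← h.z_comm_W he, mul_assoc]
  rcases h.W_conj (h.ww_le_Q hw1) hc with h1 | h1 <;> rcases h.W_conj (h.ww_le_Q hw2) hc with h2 | h2
  · refine ⟨1, one_mem _, one_mem _, key 1 (one_mem _) ?_ ?_⟩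
    · rw [mul_one, h1]
    · rw [mul_one, h2]
  · refine ⟨z 0 * z 1, hV1, hm1, key _ hV1 ?_ ?_⟩
    · rw [split, h1, a11]
    · rw [split, h2, a21, hz _ hm1]
  · refine ⟨z 0 * z 2, hV2, hm2, key _ hV2 ?_ ?_⟩
    · rw [split, h1, a12, hz _ hm2]
    · rw [split, h2, a22]
  · refine ⟨z 0 * z 1 * (z 0 * z 2), mul_mem hV1 hV2, mul_mem hm1 hm2, key _ (mul_mem hV1 hV2) ?_ ?_⟩
    · have e1 : w1 * (z 0 * z 1 * (z 0 * z 2)) * w1⁻¹ =
          (w1 * (z 0 * z 1) * w1⁻¹) * (w1 * (z 0 * z 2) * w1⁻¹) := by group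
      rw [split, h1, e1, a11, a12, ← mul_assoc (z 0 * z 1), hz _ (mul_mem hm1 hm2)]
    · have e1 : w2 * (z 0 * z 1 * (z 0 * z 2)) * w2⁻¹ =
          (w2 * (z 0 * z 1) * w2⁻¹) * (w2 * (z 0 * z 2) * w2⁻¹) := by group
      have e2 : z 0 * z 1 * z 4 * (z 0 * z 2) = z 0 * z 1 * (z 0 * z 2) * z 4 := by
        rw [mul_assoc (z 0 * z 1), ← h.z_comm_W hm2]; group
      rw [split, h2, e1, a21, a22, e2, hz _ (mul_mem hm1 hm2)]

omit [Finite G] in
/-- `Z(W) ≤ C(V)`. -/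
theorem ZW_le {x : G} (hx : x ∈ ww z 4) (hx' : x ∈ centralizer (ww z 4 : Set G)) :
    x ∈ centralizer (V : Set G) :=
  h.mem_cent_of_comm (h.ww_le_Q hx)
    (mem_centralizer_iff.1 hx' _ (pr_mem_ww (by decide) (by decide))).symm
    (mem_centralizer_iff.1 hx' _ (pr_mem_ww (by decide) (by decide))).symm

/-- The group `K` of step (6) lies in `Q`. -/
theorem kk_le : kk z ≤ qq z 4 := by
  have hKC : kk z ≤ cc z 4 := fun g hg => hg.1
  refine le_o2 hKC (isPGroup_of_pow fun k hk => ?_) (norm_iff fun g hg x hx => ?_)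
  · obtain ⟨n, hn⟩ := exists_exp (bb_isPGroup (z := z) 4)
    obtain ⟨m, hm⟩ := exists_exp (o2_isPGroup (cc z 4))
    have hB : ∀ x ∈ qq z 4, x ∈ centralizer (ww z 4 : Set G) → x ∈ bb z 4 := fun x h1 h2 => mem_inf.2 ⟨h1, h2⟩
    have h1 : k ^ 2 ^ n ∈ centralizer (ww z 4 : Set G) := mem_centralizer_iff.2 fun w hw => by
      have h2 : k * w * k⁻¹ * w⁻¹ ∈ bb z 4 :=
        hB _ (h.ww_le_Q (mul_mem (conj_ww (hKC hk) hw) (inv_mem hw))) (hk.2.1 w hw)
      have e1 : k * w * k⁻¹ = (k * w * k⁻¹ * w⁻¹) * w := by group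
      have h4 := pow_fix e1 (hk.2.2 _ h2) (2 ^ n)
      rw [hn _ h2, one_mul, mul_inv_eq_iff_eq_mul] at h4
      exact h4.symm
    set k1 := k ^ 2 ^ n with hk1
    have hk1K : k1 ∈ kk z := pow_mem hk _
    have h2 : k1 ^ 2 ^ n ∈ qq z 4 := by
      refine h.char2_cc ⟨pow_mem (hKC hk1K) _, mem_centralizer_iff.2 fun q hq => ?_⟩
      have h3 : k1 * q * k1⁻¹ * q⁻¹ ∈ bb z 4 := by
        refine hB _ (mul_mem (conj_mem_o2 (hKC hk1K) hq) (inv_mem hq)) (mem_centralizer_iff.2 fun w hw => ?_)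
        have hkw := mem_centralizer_iff.1 h1 w hw
        have hkz : z 4 * k1 = k1 * z 4 := (mem_cc.1 (hKC hk1K)).symm
        have hqz := h.Q_comm_z hq
        rw [← mul_inv_eq_iff_eq_mul]
        -- `w q w⁻¹`
        rcases h.W_conj hq hw with h5 | h5
        · have h6 : w * q * w⁻¹ = q := by
            rw [mul_inv_eq_iff_eq_mul] at h5 ⊢; exact h5.symm
          have h7 : w * (k1 * q * k1⁻¹) * w⁻¹ = k1 * (w * q * w⁻¹) * k1⁻¹ := by
            calc w * (k1 * q * k1⁻¹) * w⁻¹ = (w * k1) * q * (w * k1)⁻¹ := by group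
              _ = (k1 * w) * q * (k1 * w)⁻¹ := by rw [hkw]
              _ = _ := by group
          calc w * (k1 * q * k1⁻¹ * q⁻¹) * w⁻¹ = (w * (k1 * q * k1⁻¹) * w⁻¹) * (w * q * w⁻¹)⁻¹ := by group
            _ = _ := by rw [h7, h6]
        · have h6 : w * q * w⁻¹ = q * z 4 := by
            have h8 : q * w = w * (z 4 * q) := by
              rw [mul_inv_eq_iff_eq_mul] at h5; rw [h5]; group
            have h9 : w * q = q * w * z 4 := by
              rw [h8, ← hqz]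
              calc w * q = w * q * (z 4 * z 4) := by rw [h.pts.sq, mul_one]
                _ = _ := by group
            rw [h9, mul_assoc q, h.z_comm_W hw]; group
          have h7 : w * (k1 * q * k1⁻¹) * w⁻¹ = k1 * (w * q * w⁻¹) * k1⁻¹ := by
            calc w * (k1 * q * k1⁻¹) * w⁻¹ = (w * k1) * q * (w * k1)⁻¹ := by group
              _ = (k1 * w) * q * (k1 * w)⁻¹ := by rw [hkw]
              _ = _ := by group
          calc w * (k1 * q * k1⁻¹ * q⁻¹) * w⁻¹ = (w * (k1 * q * k1⁻¹) * w⁻¹) * (w * q * w⁻¹)⁻¹ := by group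
            _ = k1 * (q * z 4) * k1⁻¹ * (q * z 4)⁻¹ := by rw [h7, h6]
            _ = k1 * q * (z 4 * k1⁻¹) * (z 4)⁻¹ * q⁻¹ := by group
            _ = k1 * q * k1⁻¹ * q⁻¹ := by
              have : z 4 * k1⁻¹ = k1⁻¹ * z 4 := (Commute.inv_right (show Commute (z 4) k1 from hkz)).eq
              rw [this]; group
      have e1 : k1 * q * k1⁻¹ = (k1 * q * k1⁻¹ * q⁻¹) * q := by group
      have h4 := pow_fix e1 (hk1K.2.2 _ h3) (2 ^ n)
      rw [hn _ h3, one_mul, mul_inv_eq_iff_eq_mul] at h4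
      exact h4.symm
    refine ⟨n + (n + m), ?_⟩
    rw [pow_add, pow_mul, ← hk1, pow_add, pow_mul]
    exact hm _ h2
  · refine ⟨mul_mem (mul_mem hg (hKC hx)) (inv_mem hg), fun w hw => mem_centralizer_iff.2 fun u hu => ?_,
      fun b hb => ?_⟩
    · have h1 := mem_centralizer_iff.1 (hx.2.1 _ (conj_ww (inv_mem hg) hw)) _ (conj_ww (inv_mem hg) hu)
      calc u * (g * x * g⁻¹ * w * (g * x * g⁻¹)⁻¹ * w⁻¹)
          = g * ((g⁻¹ * u * g⁻¹⁻¹) * (x * (g⁻¹ * w * g⁻¹⁻¹) * x⁻¹ * (g⁻¹ * w * g⁻¹⁻¹)⁻¹)) * g⁻¹ := by group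
        _ = _ := by rw [h1]; group
    · have h1 := hx.2.2 _ (conj_bb (inv_mem hg) hb)
      calc g * x * g⁻¹ * b = g * (x * (g⁻¹ * b * g⁻¹⁻¹)) * g⁻¹ := by group
        _ = _ := by rw [h1]; group

/-- (6) -/
theorem bb_eq_one' {b : G} (hb : b ∈ bb z 0)
    (hw : ∀ w ∈ ww z 4, b * w * b⁻¹ * w⁻¹ ∈ centralizer (ww z 4 : Set G)) : b = 1 := by
  have h1 : b ∈ qq z 4 := h.kk_le ⟨h.cent_le_cc 4 (h.bb_le_cent 0 hb), hw, fun x hx =>
    h.bb_comm (i := 0) (j := 4) (by decide) hb hx⟩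
  refine h.bb_eq_one hb fun w hw => ?_
  have hbz := h.Q_comm_z h1
  rcases h.W_conj h1 hw with h5 | h5
  · left; rw [mul_inv_eq_iff_eq_mul] at h5 ⊢; exact h5.symm
  · right
    have h8 : b * w = w * (z 4 * b) := by
      rw [mul_inv_eq_iff_eq_mul] at h5; rw [h5]; group
    have h9 : w * b = b * w * z 4 := by
      rw [h8, ← hbz]
      calc w * b = w * b * (z 4 * z 4) := by rw [h.pts.sq, mul_one]
        _ = _ := by group
    rw [h9, mul_assoc b, h.z_comm_W hw]; group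

end Hyp

end Cfsg.Agent.Omega.TT

end

section


/-!
# Theorem E, step (7) and the conclusion (helper492)

`Hyp.large` : `O₂(C_G(z))` is extraspecial with centre `⟨z⟩`.
-/

set_option autoImplicit false

namespace Cfsg.Agent.Omega.TT

open Subgroup Cfsg.Agent.ZN Equiv Cfsg.Agent.MinSimple.MinParabolic Cfsg.Agent.MinSimple.VModule
open Cfsg.Agent.MinSimple.Basic

universe u

variable {G : Type u} [Group G] {V : Subgroup G} {z : Fin 5 → G} {S : Subgroup G}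

namespace Hyp

variable [Finite G] (h : Hyp V z S)

include h

/-- `[b, w] = ζ e` with `e ∈ V ∩ W`, `ζ ∈ Z(W)`, and `b` commutes with `[b, w]`. -/
theorem cm_decomp {b w : G} (hb : b ∈ bb z 0) (hw : w ∈ ww z 4) :
    ∃ e ∈ V, e ∈ ww z 4 ∧ b * w * b⁻¹ * w⁻¹ * e ∈ centralizer (ww z 4 : Set G) ∧
      b * (b * w * b⁻¹ * w⁻¹) = b * w * b⁻¹ * w⁻¹ * b := by
  obtain ⟨w1, hw1, hw1'⟩ := h.exists_W (σ := swap 0 1 * swap 2 3) (Or.inr (Or.inl rfl))
  obtain ⟨w2, hw2, hw2'⟩ := h.exists_W (σ := swap 0 2 * swap 1 3) (Or.inr (Or.inr (Or.inl rfl)))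
  have hbC : b ∈ cc z 4 := h.cent_le_cc 4 (h.bb_le_cent 0 hb)
  have hc : b * w * b⁻¹ * w⁻¹ ∈ ww z 4 := mul_mem (conj_ww hbC hw) (inv_mem hw)
  obtain ⟨e, he, heW, hce⟩ := h.exists_e hw1 hw2 hw1' hw2' hc fun u hu huV => h.cm_comm hb hw hu huV
  refine ⟨e, he, heW, hce, ?_⟩
  set c := b * w * b⁻¹ * w⁻¹
  have h1 : b * (c * e) = c * e * b := h.bb_comm_W hb (mul_mem hc heW) (h.ZW_le (mul_mem hc heW) hce)
  have h2 : e * b = b * e := mem_centralizer_iff.1 (h.bb_le_cent 0 hb) e he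
  have e1 : c = c * e * e⁻¹ := by group
  rw [e1, ← mul_assoc, h1, mul_assoc, mul_assoc (c * e)]
  congr 1
  rw [eq_inv_mul_iff_mul_eq, ← mul_assoc, h2, mul_inv_cancel_right]

/-- The square of `[b, w]` lies in `Z(W)`. -/
theorem cm_sq {b w : G} (hb : b ∈ bb z 0) (hw : w ∈ ww z 4) :
    (b * w * b⁻¹ * w⁻¹) * (b * w * b⁻¹ * w⁻¹) ∈ centralizer (ww z 4 : Set G) ∧
      ((∀ x ∈ bb z 4, x * x = 1) → (b * w * b⁻¹ * w⁻¹) * (b * w * b⁻¹ * w⁻¹) = 1) := by
  obtain ⟨e, he, heW, hce, -⟩ := h.cm_decomp hb hw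
  have hbC : b ∈ cc z 4 := h.cent_le_cc 4 (h.bb_le_cent 0 hb)
  have hc : b * w * b⁻¹ * w⁻¹ ∈ ww z 4 := mul_mem (conj_ww hbC hw) (inv_mem hw)
  set c := b * w * b⁻¹ * w⁻¹
  have hee : e * e = 1 := h.pts.sq_mem he
  have h3 : e * (c * e) = c * e * e := mem_centralizer_iff.1 hce e heW
  have h4 : c * c = (c * e) * (c * e) := by
    rw [mul_assoc c e (c * e), h3, mul_assoc c e e, hee, mul_one]
  refine ⟨by rw [h4]; exact mul_mem hce hce, fun hB => ?_⟩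
  rw [h4]
  exact hB _ (mem_inf.2 ⟨h.ww_le_Q (mul_mem hc heW), hce⟩)

/-- `B₁` is elementary abelian. -/
theorem bb_zero_sq {b : G} (hb : b ∈ bb z 0) : b * b = 1 := by
  refine h.bb_eq_one' (mul_mem hb hb) fun w hw => ?_
  obtain ⟨-, -, -, -, hbc⟩ := h.cm_decomp hb hw
  have e : b * b * w * (b * b)⁻¹ * w⁻¹ = (b * w * b⁻¹ * w⁻¹) * (b * w * b⁻¹ * w⁻¹) := by
    calc b * b * w * (b * b)⁻¹ * w⁻¹ = b * (b * w * b⁻¹ * w⁻¹) * w * b⁻¹ * w⁻¹ := by group
      _ = b * w * b⁻¹ * w⁻¹ * b * w * b⁻¹ * w⁻¹ := by rw [hbc]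
      _ = _ := by group
  rw [e]
  exact (h.cm_sq hb hw).1

theorem bb_sq {k : Fin 5} {b : G} (hb : b ∈ bb z k) : b * b = 1 := by
  obtain ⟨σ, hσ, hk⟩ := exists_alt_move k 0
  obtain ⟨g, hg, hgσ⟩ := h.pts.alt σ hσ
  have h1 := conj_mem_bb hgσ hb
  rw [hk] at h1
  have h2 := h.bb_zero_sq h1
  have e : g * b * g⁻¹ * (g * b * g⁻¹) = g * (b * b) * g⁻¹ := by group
  rw [e] at h2
  calc b * b = g⁻¹ * (g * (b * b) * g⁻¹) * g := by group
    _ = 1 := by rw [h2]; group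

omit [Finite G] in
/-- Squares in `W`. -/
theorem W_sq {w : G} (hw : w ∈ ww z 4) : w * w = 1 ∨ w * w = z 4 := by
  have hw' := hw
  rw [ww] at hw'
  induction hw' using closure_induction with
  | mem x hx =>
    obtain ⟨c, hc, i, j, hi, hj, rfl⟩ := hx
    left
    have h1 := h.pts.sq_mem (mul_mem (h.pts.mem i) (h.pts.mem j))
    calc c * (z i * z j) * c⁻¹ * (c * (z i * z j) * c⁻¹) = c * (z i * z j * (z i * z j)) * c⁻¹ := by group
      _ = 1 := by rw [h1]; group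
  | one => left; simp
  | mul x y hx1 hy1 hx hy =>
    have hx' := hx hx1
    have hy' := hy hy1
    have hxz : x * z 4 = z 4 * x := h.z_comm_W hx1
    have hyz : y * z 4 = z 4 * y := h.z_comm_W hy1
    have key : x * y * (x * y) = (x * x) * (y * y) ∨ x * y * (x * y) = (x * x) * (y * y) * z 4 := by
      rcases h.W_conj (h.ww_le_Q hy1) hx1 with h1 | h1
      · left
        rw [mul_inv_eq_iff_eq_mul] at h1
        calc x * y * (x * y) = x * (y * x) * y := by group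
          _ = _ := by rw [h1]; group
      · right
        rw [mul_inv_eq_iff_eq_mul] at h1
        calc x * y * (x * y) = x * (y * x) * y := by group
          _ = x * x * (z 4 * y) * y := by rw [h1]; group
          _ = x * x * (y * z 4) * y := by rw [hyz]
          _ = x * x * y * (z 4 * y) := by group
          _ = x * x * y * (y * z 4) := by rw [hyz]
          _ = _ := by group
    have hzz := h.pts.sq 4
    rcases hx' with e1 | e1 <;> rcases hy' with e2 | e2 <;> rcases key with e3 | e3 <;>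
      rw [e3, e1, e2] <;> simp [hzz]
  | inv x hx1 hx =>
    have e : x⁻¹ * x⁻¹ = (x * x)⁻¹ := by group
    rcases hx hx1 with h1 | h1
    · left; rw [e, h1, inv_one]
    · right; rw [e, h1, h.pts.inv_eq]

/-- Alternation: `[b, w]` commutes with `w`. -/
theorem cm_self {b w : G} (hb : b ∈ bb z 0) (hw : w ∈ ww z 4) :
    b * w * b⁻¹ * w⁻¹ * w = w * (b * w * b⁻¹ * w⁻¹) := by
  have hbz : b * z 4 = z 4 * b := mem_cc.1 (h.cent_le_cc 4 (h.bb_le_cent 0 hb))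
  have h1 := (h.cm_sq hb hw).2 fun x hx => h.bb_sq hx
  set c := b * w * b⁻¹ * w⁻¹ with hc
  have h2 : c * w = b * w * b⁻¹ := by rw [hc]; group
  have h3 : c * w * (c * w) = w * w := by
    rw [h2]
    calc b * w * b⁻¹ * (b * w * b⁻¹) = b * (w * w) * b⁻¹ := by group
      _ = w * w := by
        rcases h.W_sq hw with e | e
        · rw [e]; group
        · rw [e, hbz]; group
  have h4 : c * w * c = w := by
    have : c * w * c * w = w * w := by rw [← h3]; group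
    exact mul_right_cancel this
  have h5 : c⁻¹ = c := inv_eq_of_mul_eq_one_left h1
  calc c * w = c * w * c * c⁻¹ := by group
    _ = w * c⁻¹ := by rw [h4]
    _ = w * c := by rw [h5]

/-- If `[b, w₁]` commutes with `w₂` then `b = 1`. -/
theorem bb_eq_one_of {b w1 w2 : G} (hw1 : w1 ∈ ww z 4) (hw2 : w2 ∈ ww z 4)
    (hw1' : Act z w1 (swap 0 1 * swap 2 3)) (hw2' : Act z w2 (swap 0 2 * swap 1 3)) (hb : b ∈ bb z 0)
    (h12 : b * w1 * b⁻¹ * w1⁻¹ * w2 = w2 * (b * w1 * b⁻¹ * w1⁻¹)) : b = 1 := by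
  have hbC : b ∈ cc z 4 := h.cent_le_cc 4 (h.bb_le_cent 0 hb)
  have mem : ∀ w ∈ ww z 4, (b * w * b⁻¹ * w⁻¹) ∈ ww z 4 := fun w hw =>
    mul_mem (conj_ww hbC hw) (inv_mem hw)
  have c1 : b * w1 * b⁻¹ * w1⁻¹ ∈ centralizer (ww z 4 : Set G) :=
    h.mem_cent_W hw1 hw2 hw1' hw2' (fun u hu huV => h.cm_comm hb hw1 hu huV) (h.cm_self hb hw1) h12
  -- `[b, w₂]` commutes with `w₁`
  have c2' : b * w2 * b⁻¹ * w2⁻¹ * w1 = w1 * (b * w2 * b⁻¹ * w2⁻¹) := by
    have h1 := h.cm_self hb (mul_mem hw1 hw2)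
    have e1 : b * (w1 * w2) * b⁻¹ * (w1 * w2)⁻¹ =
        (b * w1 * b⁻¹ * w1⁻¹) * (w1 * (b * w2 * b⁻¹ * w2⁻¹) * w1⁻¹) := by group
    rw [e1] at h1
    have h2 : w1 * w2 * (b * w1 * b⁻¹ * w1⁻¹) = b * w1 * b⁻¹ * w1⁻¹ * (w1 * w2) :=
      mem_centralizer_iff.1 c1 _ (mul_mem hw1 hw2)
    set d1 := b * w1 * b⁻¹ * w1⁻¹
    have h3 := h.cm_self hb hw2
    set d2 := b * w2 * b⁻¹ * w2⁻¹
    -- `w₁ d₂ w₁⁻¹` commutes with `w₁ w₂`
    have h4 : w1 * d2 * w1⁻¹ * (w1 * w2) = w1 * w2 * (w1 * d2 * w1⁻¹) := by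
      have : d1 * (w1 * d2 * w1⁻¹ * (w1 * w2)) = d1 * (w1 * w2 * (w1 * d2 * w1⁻¹)) := by
        calc d1 * (w1 * d2 * w1⁻¹ * (w1 * w2)) = d1 * (w1 * d2 * w1⁻¹) * (w1 * w2) := by group
          _ = w1 * w2 * (d1 * (w1 * d2 * w1⁻¹)) := h1
          _ = (w1 * w2 * d1) * (w1 * d2 * w1⁻¹) := by group
          _ = d1 * (w1 * w2) * (w1 * d2 * w1⁻¹) := by rw [h2]
          _ = _ := by group
      exact mul_left_cancel this
    have h5 : d2 * w2 * w1 = w2 * w1 * d2 := by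
      have : w1 * (d2 * w2 * w1) = w1 * (w2 * w1 * d2) := by
        calc w1 * (d2 * w2 * w1) = (w1 * d2 * w1⁻¹ * (w1 * w2)) * w1 := by group
          _ = (w1 * w2 * (w1 * d2 * w1⁻¹)) * w1 := by rw [h4]
          _ = _ := by group
      exact mul_left_cancel this
    rw [h3] at h5
    have : w2 * (d2 * w1) = w2 * (w1 * d2) := by rw [← mul_assoc, h5]; group
    exact mul_left_cancel this
  have c2 : b * w2 * b⁻¹ * w2⁻¹ ∈ centralizer (ww z 4 : Set G) :=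
    h.mem_cent_W hw1 hw2 hw1' hw2' (fun u hu huV => h.cm_comm hb hw2 hu huV) c2' (h.cm_self hb hw2)
  refine h.bb_eq_one' hb fun w hw => ?_
  refine h.comm_W hw1 hw2 hw1' hw2' (P := fun w => b * w * b⁻¹ * w⁻¹ ∈ centralizer (ww z 4 : Set G))
    (fun u hu huV => ?_) c1 c2 ?_ hw
  · have h1 := h.bb_comm_W hb hu huV
    have : b * u * b⁻¹ * u⁻¹ = 1 := by rw [h1]; group
    show b * u * b⁻¹ * u⁻¹ ∈ _
    rw [this]; exact one_mem _
  · intro a a' ha ha' hP hP'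
    show b * (a * a') * b⁻¹ * (a * a')⁻¹ ∈ _
    have e : b * (a * a') * b⁻¹ * (a * a')⁻¹ = (b * a * b⁻¹ * a⁻¹) * (a * (b * a' * b⁻¹ * a'⁻¹) * a⁻¹) := by
      group
    have e2 : a * (b * a' * b⁻¹ * a'⁻¹) * a⁻¹ = b * a' * b⁻¹ * a'⁻¹ := by
      rw [mem_centralizer_iff.1 hP' a ha, mul_inv_cancel_right]
    rw [e, e2]
    exact mul_mem hP hP'

/-- `|B₁| = 2`. -/
theorem bb_zero {b : G} (hb : b ∈ bb z 0) : b = 1 ∨ b = z 0 := by
  obtain ⟨w1, hw1, hw1'⟩ := h.exists_W (σ := swap 0 1 * swap 2 3) (Or.inr (Or.inl rfl))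
  obtain ⟨w2, hw2, hw2'⟩ := h.exists_W (σ := swap 0 2 * swap 1 3) (Or.inr (Or.inr (Or.inl rfl)))
  by_contra hcon
  push Not at hcon
  have key : ∀ x ∈ bb z 0, x ≠ 1 → w2 * (x * w1 * x⁻¹ * w1⁻¹) * w2⁻¹ = x * w1 * x⁻¹ * w1⁻¹ * z 4 := by
    intro x hx hx1
    have hxC : x ∈ cc z 4 := h.cent_le_cc 4 (h.bb_le_cent 0 hx)
    have hm : x * w1 * x⁻¹ * w1⁻¹ ∈ ww z 4 := mul_mem (conj_ww hxC hw1) (inv_mem hw1)
    rcases h.W_conj (h.ww_le_Q hw2) hm with h1 | h1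
    · exfalso
      refine hx1 (h.bb_eq_one_of hw1 hw2 hw1' hw2' hx ?_)
      rw [mul_inv_eq_iff_eq_mul] at h1
      exact h1.symm
    · exact h1
  have hz := h.z_mem_bb 0
  have h1 := key b hb hcon.1
  have h2 := key (z 0) hz (h.pts.ne_one 0)
  have hbz := h.bb_le_cent 0 hb
  -- the product `z₀ b`
  have h3 : z 0 * b = 1 := by
    refine h.bb_eq_one_of hw1 hw2 hw1' hw2' (mul_mem hz hb) ?_
    obtain ⟨e, he, heW, hce, -⟩ := h.cm_decomp hb hw1
    have hbC : b ∈ cc z 4 := h.cent_le_cc 4 (h.bb_le_cent 0 hb)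
    have hm : b * w1 * b⁻¹ * w1⁻¹ ∈ ww z 4 := mul_mem (conj_ww hbC hw1) (inv_mem hw1)
    have h4 : z 0 * (b * w1 * b⁻¹ * w1⁻¹) = b * w1 * b⁻¹ * w1⁻¹ * z 0 := by
      have h5 : z 0 * (b * w1 * b⁻¹ * w1⁻¹ * e) = b * w1 * b⁻¹ * w1⁻¹ * e * z 0 :=
        h.bb_comm_W hz (mul_mem hm heW) (h.ZW_le (mul_mem hm heW) hce)
      have h6 : e * z 0 = z 0 * e := h.pts.comm_mem he (h.pts.mem 0)
      set c := b * w1 * b⁻¹ * w1⁻¹
      have e1 : c = c * e * e⁻¹ := by group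
      rw [e1, ← mul_assoc, h5, mul_assoc, mul_assoc (c * e)]
      congr 1
      rw [eq_inv_mul_iff_mul_eq, ← mul_assoc, h6, mul_inv_cancel_right]
    have e1 : z 0 * b * w1 * (z 0 * b)⁻¹ * w1⁻¹ =
        (b * w1 * b⁻¹ * w1⁻¹) * (z 0 * w1 * (z 0)⁻¹ * w1⁻¹) := by
      calc z 0 * b * w1 * (z 0 * b)⁻¹ * w1⁻¹ =
          z 0 * (b * w1 * b⁻¹ * w1⁻¹) * (w1 * (z 0)⁻¹ * w1⁻¹) := by group
        _ = _ := by rw [h4]; group
    rw [e1]
    have hzm : z 0 * w1 * (z 0)⁻¹ * w1⁻¹ ∈ ww z 4 :=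
      mul_mem (conj_ww (h.Vcc 4 (h.pts.mem 0)) hw1) (inv_mem hw1)
    have h7 : w2 * ((b * w1 * b⁻¹ * w1⁻¹) * (z 0 * w1 * (z 0)⁻¹ * w1⁻¹)) * w2⁻¹ =
        (b * w1 * b⁻¹ * w1⁻¹) * (z 0 * w1 * (z 0)⁻¹ * w1⁻¹) := by
      calc w2 * ((b * w1 * b⁻¹ * w1⁻¹) * (z 0 * w1 * (z 0)⁻¹ * w1⁻¹)) * w2⁻¹
          = (w2 * (b * w1 * b⁻¹ * w1⁻¹) * w2⁻¹) * (w2 * (z 0 * w1 * (z 0)⁻¹ * w1⁻¹) * w2⁻¹) := by group
        _ = (b * w1 * b⁻¹ * w1⁻¹ * z 4) * (z 0 * w1 * (z 0)⁻¹ * w1⁻¹ * z 4) := by rw [h1, h2]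
        _ = b * w1 * b⁻¹ * w1⁻¹ * z 4 * (z 4 * (z 0 * w1 * (z 0)⁻¹ * w1⁻¹)) := by
            rw [h.z_comm_W hzm]
        _ = b * w1 * b⁻¹ * w1⁻¹ * (z 4 * z 4) * (z 0 * w1 * (z 0)⁻¹ * w1⁻¹) := by group
        _ = _ := by rw [h.pts.sq, mul_one]
    rw [mul_inv_eq_iff_eq_mul] at h7
    exact h7.symm
  apply hcon.2
  have := eq_inv_of_mul_eq_one_right h3
  rwa [h.pts.inv_eq] at this

theorem bb_four {b : G} (hb : b ∈ bb z 4) : b = 1 ∨ b = z 4 := by
  obtain ⟨σ, hσ, hk⟩ := exists_alt_move 4 0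
  obtain ⟨g, hg, hgσ⟩ := h.pts.alt σ hσ
  have h1 := conj_mem_bb hgσ hb
  rw [hk] at h1
  rcases h.bb_zero h1 with h2 | h2
  · left
    calc b = g⁻¹ * (g * b * g⁻¹) * g := by group
      _ = 1 := by rw [h2]; group
  · right
    rw [← hk, ← hgσ 4] at h2
    calc b = g⁻¹ * (g * b * g⁻¹) * g := by group
      _ = z 4 := by rw [h2]; group

open Cfsg.Agent.Co2Type.Quad in
/-- `Q = W`. -/
theorem Q_eq_ww : qq z 4 = ww z 4 := by
  refine le_antisymm ?_ h.ww_le_Q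
  set Q := qq z 4 with hQ
  let W' : Subgroup Q := (ww z 4).subgroupOf Q
  let z' : Q := ⟨z 4, h.z_mem_Q⟩
  have hL : Large W' z' := by
    refine
      { z_mem := mem_subgroupOf.2 h.z_mem_ww
        z_ne := fun e => h.pts.ne_one 4 (congrArg Subtype.val e)
        z_sq := Subtype.ext (h.pts.sq 4)
        comm_z := fun x _ => Subtype.ext (h.Q_comm_z x.2)
        conj_mem := fun g _ x hx => mem_subgroupOf.2 (conj_ww (o2_le _ g.2) (mem_subgroupOf.1 hx))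
        sq := fun x hx => (h.W_sq (mem_subgroupOf.1 hx)).imp (fun e => Subtype.ext e) (fun e => Subtype.ext e)
        comm := fun x hx y hy => ?_
        cent := fun x hx hc => ?_
        self := fun g _ hc => ?_ }
    · have hyx := h.z_comm_W (mem_subgroupOf.1 hy)
      rcases h.W_conj x.2 (mem_subgroupOf.1 hy) with e | e
      · left; apply Subtype.ext
        rw [mul_inv_eq_iff_eq_mul] at e; exact e
      · right; apply Subtype.ext
        rw [mul_inv_eq_iff_eq_mul] at e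
        show (x : G) * y = y * x * z 4
        rw [e, mul_assoc, ← h.Q_comm_z x.2, mul_assoc]
    · have : (x : G) ∈ bb z 4 := mem_inf.2 ⟨x.2, mem_centralizer_iff.2 fun w hw =>
        (congrArg Subtype.val (hc ⟨w, h.ww_le_Q hw⟩ (mem_subgroupOf.2 hw))).symm⟩
      exact (h.bb_four this).imp (fun e => Subtype.ext e) (fun e => Subtype.ext e)
    · have : (g : G) ∈ bb z 4 := mem_inf.2 ⟨g.2, mem_centralizer_iff.2 fun w hw =>
        (congrArg Subtype.val (hc ⟨w, h.ww_le_Q hw⟩ (mem_subgroupOf.2 hw))).symm⟩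
      rw [mem_subgroupOf]
      rcases h.bb_four this with e | e
      · rw [e]; exact one_mem _
      · rw [e]; exact h.z_mem_ww
  intro g hg
  have hgz : (⟨g, hg⟩ : Q) ∈ centralizer ({z'} : Set Q) :=
    mem_centralizer_singleton_iff.2 (Subtype.ext (h.Q_comm_z hg))
  refine mem_subgroupOf.1 (hL.mem_of_act ⟨⟨g, hg⟩, hgz⟩ ?_)
  ext v
  obtain ⟨x, rfl⟩ := hL.pr_surjective v
  rw [hL.act_pr]
  show hL.pr (hL.conjQ ⟨⟨g, hg⟩, hgz⟩ x) = hL.pr x
  rw [hL.pr_eq_pr, Large.conjQ_coe]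
  rcases h.W_conj hg (mem_subgroupOf.1 x.2) with e | e
  · left; exact Subtype.ext e
  · right; exact Subtype.ext e

open Cfsg.Agent.Co2Type.Quad in
/-- **Theorem E**: `O₂(C_G(z))` is extraspecial. -/
theorem large : Large (o2 (centralizer ({z 4} : Set G))) (z 4) where
  z_mem := h.z_mem_Q
  z_ne := h.pts.ne_one 4
  z_sq := h.pts.sq 4
  comm_z := fun _ hx => h.Q_comm_z hx
  conj_mem := fun _ hg _ hx => conj_mem_o2 (mem_cc.2 hg) hx
  sq := fun x hx => h.W_sq (by rw [← h.Q_eq_ww]; exact hx)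
  comm := fun x hx y hy => by
    rcases h.W_conj (z := z) hx (by rw [← h.Q_eq_ww]; exact hy) with e | e
    · left; rw [mul_inv_eq_iff_eq_mul] at e; exact e
    · right
      rw [mul_inv_eq_iff_eq_mul] at e
      rw [e, mul_assoc, ← h.Q_comm_z hx, mul_assoc]
  cent := fun x hx hc => h.bb_four (mem_inf.2 ⟨hx, mem_centralizer_iff.2 fun w hw =>
    (hc w (h.ww_le_Q hw)).symm⟩)
  self := fun _ hg hc => h.char2_cc ⟨mem_cc.2 hg, mem_centralizer_iff.2 fun x hx => (hc x hx).symm⟩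

end Hyp

end Cfsg.Agent.Omega.TT

end

section


/-!
# Theorem E (project OMEGA, II.c and NO-1 for `q = 2`; helper492)

`G` of characteristic 2 type, `V` elementary abelian of order 16 with five points `z i` permuted by
`N_G(V) ≥ S`, `S` a Sylow 2-subgroup of `G`, at least the alternating group being induced
(`V = O₄⁻(2)`).  If `V ≰ O₂(C_G(z k))` for some `k`, then `O₂(C_G(z k))` is extraspecial:

* `Pts.large` : `Large (o2 (centralizer {z k})) (z k)`;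
* `Pts.extra` : `∃ n, 2 ≤ n ∧ Exits.Extra (z k) n` (hypothesis of the exits S1759, S1761, S1762, S1763).
-/

set_option autoImplicit false

namespace Cfsg.Agent.Omega.TT

open Subgroup Cfsg Cfsg.Agent.ZN Equiv Cfsg.Agent.MinSimple.MinParabolic Cfsg.Agent.MinSimple.VModule
open Cfsg.Agent.MinSimple.Basic Cfsg.Agent.Co2Type.Quad

universe u

variable {G : Type u} [Group G] {V : Subgroup G} {z : Fin 5 → G}

namespace Hyp

variable [Finite G] {S : Subgroup G} (h : Hyp V z S)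

include h

/-- `|Q| > 8`. -/
theorem card_ne : Nat.card (qq z 4) ≠ 8 := by
  intro h8
  have hL : Large (qq z 4) (z 4) := h.large
  have hV : Nat.card hL.V = 4 := by
    have := hL.card_eq
    omega
  let a : qq z 4 := ⟨z 0 * z 1, h.pr_mem_Q (by decide) (by decide)⟩
  let b : qq z 4 := ⟨z 0 * z 2, h.pr_mem_Q (by decide) (by decide)⟩
  have e4 : z 4 = h.pts.ev {4} := (h.pts.ev_singleton 4).symm
  have e1 : (1 : G) = h.pts.ev ∅ := h.pts.ev_empty.symm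
  have ha : hL.pr a ≠ 0 := by
    rw [Ne, hL.pr_eq_zero]
    show ¬ (z 0 * z 1 = 1 ∨ z 0 * z 1 = z 4)
    rw [h.ev_pr, e1, e4, h.pts.ev_inj, h.pts.ev_inj]
    decide
  have hb : hL.pr b ≠ 0 := by
    rw [Ne, hL.pr_eq_zero]
    show ¬ (z 0 * z 2 = 1 ∨ z 0 * z 2 = z 4)
    rw [h.ev_pr, e1, e4, h.pts.ev_inj, h.pts.ev_inj]
    decide
  have hab : hL.pr a ≠ hL.pr b := by
    rw [Ne, hL.pr_eq_pr]
    show ¬ (z 0 * z 1 = z 0 * z 2 ∨ z 0 * z 1 = z 0 * z 2 * z 4)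
    rw [h.ev_pr, h.ev_pr, e4, h.pts.ev_mul, h.pts.ev_inj, h.pts.ev_inj]
    decide
  have hcomm : hL.b (hL.pr a) (hL.pr b) = 0 :=
    (hL.b_pr a b).2 (h.pts.comm_mem (mul_mem (h.pts.mem 0) (h.pts.mem 1)) (mul_mem (h.pts.mem 0) (h.pts.mem 2)))
  classical
  have : Fintype hL.V := Fintype.ofFinite _
  have hall : ∀ v : hL.V, v = 0 ∨ v = hL.pr a ∨ v = hL.pr b ∨ v = hL.pr a + hL.pr b := by
    have hcard : ({0, hL.pr a, hL.pr b, hL.pr a + hL.pr b} : Finset hL.V).card = 4 := by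
      rw [Finset.card_insert_of_notMem, Finset.card_insert_of_notMem, Finset.card_insert_of_notMem,
        Finset.card_singleton]
      · simp only [Finset.mem_singleton]
        intro e
        exact ha (by simpa using e.symm)
      · simp only [Finset.mem_insert, Finset.mem_singleton, not_or]
        refine ⟨hab, fun e => hb ?_⟩
        simpa using e.symm
      · simp only [Finset.mem_insert, Finset.mem_singleton, not_or]
        refine ⟨ha.symm, hb.symm, fun e => hab ?_⟩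
        have h1 := eq_neg_of_add_eq_zero_left e.symm
        rwa [hL.neg_eq] at h1
    have huniv : ({0, hL.pr a, hL.pr b, hL.pr a + hL.pr b} : Finset hL.V) = Finset.univ := by
      rw [← Finset.card_eq_iff_eq_univ, hcard, ← Nat.card_eq_fintype_card, hV]
    intro v
    have := Finset.mem_univ v
    rw [← huniv] at this
    simpa using this
  refine ha (hL.b_nondeg fun w => ?_)
  rcases hall w with rfl | rfl | rfl | rfl
  · simp
  · exact hL.b_self _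
  · exact hcomm
  · rw [map_add, hcomm, hL.b_self, add_zero]

theorem large_at (k : Fin 5) : Large (qq z k) (z k) ∧ Nat.card (qq z k) = Nat.card (qq z 4) := by
  obtain ⟨τ, hτ, hτk⟩ := exists_alt_move 4 k
  obtain ⟨x, hx, hxτ⟩ := h.pts.alt τ hτ
  have hL := h.large.conj x
  have e1 := MinPar.o2_map_equiv (MulAut.conj x) (cc z 4)
  rw [map_cc hxτ, hτk] at e1
  rw [← e1, hxτ 4, hτk] at hL
  refine ⟨hL, ?_⟩
  rw [qq, e1]
  exact Nat.card_congr ((qq z 4).equivMapOfInjective _ (MulAut.conj x).injective).symm.toEquiv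

theorem extra_at (k : Fin 5) : ∃ n, 2 ≤ n ∧ Exits.Extra (z k) n := by
  obtain ⟨hL, hc⟩ := h.large_at k
  have h2 : Nat.card (qq z k) ≠ 2 := by
    intro h2
    obtain ⟨hL', hc'⟩ := h.large_at 4
    rw [hc] at h2
    have h3 := h.z_mem_Q
    have h4 := h.pr_mem_Q (i := 0) (j := 1) (by decide) (by decide)
    have h5 := hL'.card_eq
    rw [h2] at h5
    have h6 : Nat.card hL'.V = 1 := by omega
    have h7 : Subsingleton hL'.V := (Nat.card_eq_one_iff_unique.1 h6).1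
    have h8 : hL'.pr ⟨z 0 * z 1, h4⟩ = 0 := Subsingleton.elim _ _
    rw [hL'.pr_eq_zero] at h8
    have e4 : z 4 = h.pts.ev {4} := (h.pts.ev_singleton 4).symm
    have e1 : (1 : G) = h.pts.ev ∅ := h.pts.ev_empty.symm
    change z 0 * z 1 = 1 ∨ z 0 * z 1 = z 4 at h8
    rw [h.ev_pr, e1, e4, h.pts.ev_inj, h.pts.ev_inj] at h8
    revert h8
    decide
  have hE := LargeExtra.Nine.ToCent.isExtraspecial_Q hL h2
  obtain ⟨n, hn1, hn⟩ := Transfer.Extraspecial.exists_card_eq Nat.prime_two hE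
  have e : ↥(pCore 2 ↥(centralizer ({z k} : Set G))) ≃* ↥(qq z k) :=
    (pCore 2 ↥(centralizer ({z k} : Set G))).equivMapOfInjective _ (subtype_injective _)
  refine ⟨n, ?_, ?_, J2.ExtQuot.isExtraspecial_of_equiv e.symm hE, ?_⟩
  · by_contra hlt
    have : n = 1 := by omega
    subst this
    exact h.card_ne (by rw [← hc, hn]; norm_num)
  · exact orderOf_eq_prime (by rw [pow_two]; exact h.pts.sq k) (h.pts.ne_one k)
  · rw [Nat.card_congr e.toEquiv]; exact hn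

end Hyp

namespace Pts

/-- The action of `N_G(V)` on the points. -/
noncomputable def phi (h : Pts V z) : normalizer (V : Set G) →* Perm (Fin 5) where
  toFun g := (h.perm g g.2).choose
  map_one' := Act.unique h.inj (h.perm 1 (one_mem _)).choose_spec Act.one
  map_mul' a b := Act.unique h.inj (h.perm (a * b) (mul_mem a.2 b.2)).choose_spec
    ((h.perm a a.2).choose_spec.mul (h.perm b b.2).choose_spec)

theorem act_phi (h : Pts V z) (g : normalizer (V : Set G)) : Act z g (h.phi g) := (h.perm g g.2).choose_spec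

/-- A 2-subgroup of `N_G(V)` fixes a point. -/
theorem exists_fix [Finite G] (h : Pts V z) {S : Subgroup G} (hS : IsPGroup 2 S)
    (hSV : S ≤ normalizer (V : Set G)) : ∃ k, S ≤ centralizer ({z k} : Set G) := by
  have : Fact (Nat.Prime 2) := ⟨Nat.prime_two⟩
  let f : S →* Perm (Fin 5) := h.phi.comp (Subgroup.inclusion hSV)
  let _ : MulAction S (Fin 5) := MulAction.compHom (Fin 5) f
  have h5 : ¬ 2 ∣ Nat.card (Fin 5) := by rw [Nat.card_eq_fintype_card, Fintype.card_fin]; norm_num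
  obtain ⟨k, hk⟩ := hS.nonempty_fixed_point_of_prime_not_dvd_card (Fin 5) h5
  refine ⟨k, fun s hs => mem_centralizer_singleton_iff.2 ?_⟩
  have h1 : (h.phi ⟨s, hSV hs⟩) k = k := hk ⟨s, hs⟩
  exact (h.fix_iff (h.act_phi ⟨s, hSV hs⟩) k).2 h1

theorem hyp [Finite G] (hG : IsCharacteristicTwoType G) (h : Pts V z) (S : Sylow 2 G)
    (hSV : (S : Subgroup G) ≤ normalizer (V : Set G)) (hz : (S : Subgroup G) ≤ centralizer ({z 4} : Set G))
    (hV : ¬ V ≤ o2 (centralizer ({z 4} : Set G))) : Hyp V z (S : Subgroup G) where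
  pts := h
  two := S.isPGroup'
  max := fun _ hU hn => MinPar.le_of_le_normalizer S hU hn
  norm := hSV
  fix := hz
  char2 := fun _ hU hU1 => char2_normalizer hG hU hU1
  not_le := hV

/-- The hypothesis of Theorem E from a Sylow 2-subgroup in `N_G(V)`. -/
theorem exists_hyp [Finite G] (hG : IsCharacteristicTwoType G) (h : Pts V z) (S : Sylow 2 G)
    (hSV : (S : Subgroup G) ≤ normalizer (V : Set G)) {k : Fin 5}
    (hV : ¬ V ≤ o2 (centralizer ({z k} : Set G))) : ∃ S' : Subgroup G, Hyp V z S' := by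
  obtain ⟨j, hj⟩ := h.exists_fix S.isPGroup' hSV
  -- conjugate `j` to `4`
  obtain ⟨σ, hσ, hσj⟩ := exists_alt_move j 4
  obtain ⟨g, hg, hgσ⟩ := h.alt σ hσ
  have hcoe : ((g • S : Sylow 2 G) : Subgroup G) = (S : Subgroup G).map (MulAut.conj g).toMonoidHom := rfl
  have hS1 : ((g • S : Sylow 2 G) : Subgroup G) ≤ normalizer (V : Set G) := by
    rw [hcoe]
    rintro _ ⟨s, hs, rfl⟩
    exact mul_mem (mul_mem hg (hSV hs)) (inv_mem hg)
  have hS2 : ((g • S : Sylow 2 G) : Subgroup G) ≤ centralizer ({z 4} : Set G) := by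
    rw [hcoe]
    rintro _ ⟨s, hs, rfl⟩
    have := conj_mem_cc hgσ (hj hs)
    rwa [hσj] at this
  -- conjugate `k` to `4`
  obtain ⟨τ, hτ, hτk⟩ := exists_alt_move 4 k
  obtain ⟨x, hx, hxτ⟩ := h.alt τ hτ
  have hV4 : ¬ V ≤ o2 (centralizer ({z 4} : Set G)) := by
    intro hle
    apply hV
    intro v hv
    have h1 := (mem_normalizer_iff.1 (inv_mem hx) v).1 hv
    have h2 := conj_mem_qq hxτ (hle h1)
    rw [hτk] at h2
    have e : x * (x⁻¹ * v * x⁻¹⁻¹) * x⁻¹ = v := by group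
    rwa [e] at h2
  exact ⟨_, hyp hG h (g • S) hS1 hS2 hV4⟩

/-- **Theorem E**. -/
theorem large [Finite G] (hG : IsCharacteristicTwoType G) (h : Pts V z) (S : Sylow 2 G)
    (hSV : (S : Subgroup G) ≤ normalizer (V : Set G)) {k : Fin 5}
    (hV : ¬ V ≤ o2 (centralizer ({z k} : Set G))) : Large (o2 (centralizer ({z k} : Set G))) (z k) := by
  obtain ⟨S', hS'⟩ := exists_hyp hG h S hSV hV
  exact (hS'.large_at k).1

/-- **Theorem E**, in the form of the exits. -/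
theorem extra [Finite G] (hG : IsCharacteristicTwoType G) (h : Pts V z) (S : Sylow 2 G)
    (hSV : (S : Subgroup G) ≤ normalizer (V : Set G)) {k : Fin 5}
    (hV : ¬ V ≤ o2 (centralizer ({z k} : Set G))) : ∃ n, 2 ≤ n ∧ Exits.Extra (z k) n := by
  obtain ⟨S', hS'⟩ := exists_hyp hG h S hSV hV
  exact hS'.extra_at k

end Pts

end Cfsg.Agent.Omega.TT

end

section


/-!
# #15257 (2) for `n` not 2-central: `V ≤ O₂(C_G(s))` if `V₀ ≠ 1` (THEOREM E)
-/

set_option autoImplicit false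
set_option linter.unusedSectionVars false

namespace Cfsg.Agent.Omega.TTn.Z.QsLarge

open Subgroup Cfsg Cfsg.Agent.ZN Cfsg.Agent.ZN.ChoiceBase
open Cfsg.Agent.Omega.S5.Mod Cfsg.Agent.Omega.S5.TT
open Cfsg.Agent.Omega.S5.TT.Pos (na ns as sn n_ne s_ne a_ne n_ne_a n_ne_s a_ne_s e_sq' mem_C)
open Cfsg.Agent.MinSimple.VModule (o2_isPGroup le_o2 o2_le le_normalizer_o2 o2_le_of_sylow)

/-- weight 1, weight 2, or trivial -/
theorem trich : ∀ x : Vec, (x = 0 ∨ x = 1) ∨ (∃ i, x = Pi.single i 1 ∨ x = Pi.single i 1 + 1) ∨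
    ∃ i j : Fin 5, nn ∘ (Equiv.swap 0 i * Equiv.swap 1 j : Equiv.Perm (Fin 5)).symm = x ∨
      nn ∘ (Equiv.swap 0 i * Equiv.swap 1 j : Equiv.Perm (Fin 5)).symm = x + 1 := by
  decide +kernel

universe u

variable {G : Type u} [Group G]

variable {S : Sylow 2 G} {V L : Subgroup G} {M : FiveMod V L}

/-- the points -/
def pt (M : FiveMod V L) (i : Fin 5) : G := M.e (Pi.single i 1)

theorem pt_conj {g : G} {p : Equiv.Perm (Fin 5)} (hg : M.Ind g p) (i : Fin 5) :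
    g * pt M i * g⁻¹ = pt M (p i) := by
  rw [pt, hg, FiveMod.single_comp]
  rfl

theorem vec_eq : ∀ x : Vec, x = (x 0) • (Pi.single 0 1 : Vec) + (x 1) • (Pi.single 1 1 : Vec) +
    (x 2) • (Pi.single 2 1 : Vec) + (x 3) • (Pi.single 3 1 : Vec) + (x 4) • (Pi.single 4 1 : Vec) := by
  decide +kernel

theorem gen (M : FiveMod V L) : V = closure (Set.range (pt M)) := by
  refine le_antisymm (fun v hv => ?_) ((closure_le _).2 ?_)
  · obtain ⟨x, rfl⟩ := (M.mem_iff v).1 hv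
    have h1 : ∀ (c : ZMod 2) (i : Fin 5), M.e (c • (Pi.single i 1 : Vec)) ∈ closure (Set.range (pt M)) := by
      intro c i
      have hc : ∀ c : ZMod 2, c = 0 ∨ c = 1 := by decide
      rcases hc c with rfl | rfl
      · rw [zero_smul, M.e_zero]; exact one_mem _
      · rw [one_smul]; exact subset_closure ⟨i, rfl⟩
    rw [vec_eq x, M.e_add, M.e_add, M.e_add, M.e_add]
    exact mul_mem (mul_mem (mul_mem (mul_mem (h1 _ _) (h1 _ _)) (h1 _ _)) (h1 _ _)) (h1 _ _)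
  · rintro _ ⟨i, rfl⟩
    exact M.e_mem _

theorem pt_inj : Function.Injective (pt M) := by
  intro i j hij
  exact FiveMod.single_inj i j (M.e_eq_iff.1 hij)

/-- `N_G(V)` permutes the points if `n` is not 2-central. -/
theorem perm (t : Z.Dih S M) (nc : ∀ P : Sylow 2 G, ¬ (P : Subgroup G) ≤ centralizer ({M.e nn} : Set G))
    {g : G} (hg : g ∈ normalizer (V : Set G)) : ∃ σ : Equiv.Perm (Fin 5), TT.Act (pt M) g σ := by
  have key : ∀ i, ∃ j, g * pt M i * g⁻¹ = pt M j := by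
    intro i
    have h1 : g * pt M i * g⁻¹ ∈ V := (mem_normalizer_iff.1 hg _).1 (M.e_mem _)
    obtain ⟨x, hx⟩ := (M.mem_iff _).1 h1
    rcases trich x with h2 | ⟨j, h2⟩ | ⟨j, k, h2⟩
    · exfalso
      rw [(M.ker x).2 h2] at hx
      have h3 : pt M i = 1 := by
        have := congrArg (fun y => g⁻¹ * y * g) hx
        simpa [mul_assoc] using this.symm
      have h4 := (M.ker _).1 h3
      revert h4
      fin_cases i <;> decide
    · exact ⟨j, by rw [← hx]; exact M.e_eq_iff.2 h2⟩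
    · exfalso
      obtain ⟨l, -, hl⟩ := M.exists_lift (Equiv.swap 0 j * Equiv.swap 1 k)
      have hl : M.Ind l _ := hl
      obtain ⟨r, -, hr⟩ := M.exists_lift (Equiv.swap i 4)
      have hr : M.Ind r _ := hr
      -- `l n l⁻¹ = M.e x = g (pt i) g⁻¹`, `pt i = r (pt 4) r⁻¹`
      have e1 : l * M.e nn * l⁻¹ = M.e x := by rw [hl, M.e_eq_iff]; exact h2
      have e2 : r * M.e ss * r⁻¹ = pt M i := by
        have h3 := pt_conj hr 4
        rw [Equiv.swap_apply_right] at h3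
        have e3 : (ss : Vec) = Pi.single 4 1 := by decide
        rw [e3]; exact h3
      have e3 : (l⁻¹ * g * r) * M.e ss * (l⁻¹ * g * r)⁻¹ = M.e nn := by
        calc (l⁻¹ * g * r) * M.e ss * (l⁻¹ * g * r)⁻¹ = l⁻¹ * (g * (r * M.e ss * r⁻¹) * g⁻¹) * l := by group
          _ = l⁻¹ * (l * M.e nn * l⁻¹) * l := by rw [e2, ← hx, e1]
          _ = M.e nn := by group
      refine nc ((l⁻¹ * g * r) • S) ?_
      rintro _ ⟨y, hy, rfl⟩
      refine mem_C.2 ?_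
      change (l⁻¹ * g * r) * y * (l⁻¹ * g * r)⁻¹ * M.e nn = M.e nn * ((l⁻¹ * g * r) * y * (l⁻¹ * g * r)⁻¹)
      have h4 := t.S_comm hy
      rw [← e3]
      set w := l⁻¹ * g * r
      calc w * y * w⁻¹ * (w * M.e ss * w⁻¹) = w * (y * M.e ss) * w⁻¹ := by group
        _ = w * (M.e ss * y) * w⁻¹ := by rw [h4]
        _ = w * M.e ss * w⁻¹ * (w * y * w⁻¹) := by group
  choose j hj using key
  have hinj : Function.Injective j := by
    intro i i' h0
    have h1 : g * pt M i * g⁻¹ = g * pt M i' * g⁻¹ := by rw [hj, hj, h0]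
    exact pt_inj (mul_left_cancel (mul_right_cancel h1))
  exact ⟨Equiv.ofBijective j (Finite.injective_iff_bijective.1 hinj), hj⟩

theorem pts (t : Z.Dih S M) (nc : ∀ P : Sylow 2 G, ¬ (P : Subgroup G) ≤ centralizer ({M.e nn} : Set G)) :
    TT.Pts V (pt M) where
  gen := gen M
  sq _ := M.e_sq _
  comm _ _ := M.e_comm _ _
  prod := by
    simp only [pt]
    rw [← M.e_add, ← M.e_add, ← M.e_add, ← M.e_add,
      show (Pi.single 0 1 + Pi.single 1 1 + Pi.single 2 1 + Pi.single 3 1 + Pi.single 4 1 : Vec) = 1 by decide,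
      M.e_one]
  inj := pt_inj
  perm _ hg := perm t nc hg
  alt σ _ := by
    obtain ⟨g, hg, hi⟩ := M.exists_lift σ
    exact ⟨g, M.le_normalizer hg, fun i => pt_conj hi i⟩

/-- **(2)**: `V ≤ O₂(C_G(s))`. -/
theorem V_le_Qs [Finite G] (h2 : IsCharacteristicTwoType G) (t : Z.Dih S M)
    (nc : ∀ P : Sylow 2 G, ¬ (P : Subgroup G) ≤ centralizer ({M.e nn} : Set G)) {v : G}
    (hvS : ∀ g ∈ (S : Subgroup G), g * v = v * g) (hvL : ∀ g ∈ L, g * v = v * g) (hv1 : v ≠ 1) :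
    V ≤ Q (M.e ss) := by
  by_contra hne
  have e0 : (ss : Vec) = Pi.single 4 1 := by decide
  have hs : M.e ss = pt M 4 := by rw [e0]; rfl
  have hL := (pts t nc).large h2 S t.S_norm (k := 4) (by rw [← hs]; exact hne)
  rw [← hs] at hL
  have hQS : o2 (centralizer ({M.e ss} : Set G)) ≤ (S : Subgroup G) :=
    o2_le_of_sylow S.isPGroup' (MinSimple.Basic.not_dvd_relIndex S fun _ hg => mem_C.2 (t.S_comm hg))
  have hvQ : ∀ y ∈ o2 (centralizer ({M.e ss} : Set G)), v * y = y * v := fun y hy => (hvS y (hQS hy)).symm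
  have hvs : v * M.e ss = M.e ss * v := (hvS _ (t.V_le_S (M.e_mem _))).symm
  have h3 := hL.self v hvs hvQ
  rcases hL.cent v h3 hvQ with h4 | h4
  · exact hv1 h4
  · obtain ⟨l, hlL, hl⟩ := M.exists_lift (Equiv.swap 0 4)
    have hl : M.Ind l _ := hl
    have h5 := hvL l hlL
    rw [h4, hl.commute_iff] at h5
    revert h5
    decide

end Cfsg.Agent.Omega.TTn.Z.QsLarge

end
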